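import Mathlib.AlgebraicGeometry.Morphisms.Basic

/-! Restriction of a morphism to unions of opens of the target. -/

set_option autoImplicit false
universe u
open CategoryTheory AlgebraicGeometry TopologicalSpace

namespace K386.Loc

/-- a property local on the target holds over a union of opens when it holds over each. -/
theorem restrict_iSup (P : MorphismProperty Scheme.{u}) [IsZariskiLocalAtTarget P]
    {X S : Scheme.{u}} (f : X ⟶ S) {ι : Type*} (U : ι → S.Opens) (H : ∀ i, P (f ∣_ U i)) :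
    P (f ∣_ ⨆ i, U i) := by
  refine IsZariskiLocalAtTarget.of_iSup_eq_top (P := P) (fun i ↦ (⨆ i, U i).ι ⁻¹ᵁ U i) ?_ ?_
  · apply (⨆ i, U i).ι.image_injective
    dsimp only
    rw [Scheme.Hom.image_iSup, Scheme.Hom.image_top_eq_opensRange, Scheme.Opens.opensRange_ι]
    simp [Scheme.Hom.image_preimage_eq_opensRange_inf, le_iSup U]
  · intro i
    rw [P.arrow_mk_iso_iff (morphismRestrictRestrict _ _ _)]
    have h : (⨆ i, U i).ι ''ᵁ ((⨆ i, U i).ι ⁻¹ᵁ U i) = U i := by
      rw [Scheme.Hom.image_preimage_eq_opensRange_inf, Scheme.Opens.opensRange_ι]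
      exact inf_eq_right.mpr (le_iSup U i)
    rw [P.arrow_mk_iso_iff (morphismRestrictEq _ h)]
    exact H i

/-- restriction to a smaller open keeps a property local on the target. -/
theorem restrict_of_le (P : MorphismProperty Scheme.{u}) [IsZariskiLocalAtTarget P]
    {X S : Scheme.{u}} (f : X ⟶ S) {U V : S.Opens} (h : U ≤ V) (H : P (f ∣_ V)) :
    P (f ∣_ U) := by
  have h1 : P ((f ∣_ V) ∣_ (V.ι ⁻¹ᵁ U)) := IsZariskiLocalAtTarget.restrict H _
  rw [P.arrow_mk_iso_iff (morphismRestrictRestrict _ _ _)] at h1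
  have h2 : V.ι ''ᵁ (V.ι ⁻¹ᵁ U) = U := by
    rw [Scheme.Hom.image_preimage_eq_opensRange_inf, Scheme.Opens.opensRange_ι]
    exact inf_eq_right.mpr h
  rwa [P.arrow_mk_iso_iff (morphismRestrictEq _ h2)] at h1

end K386.Loc
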