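import Groth.Prelude.Def_RelProj
import Groth.Agent.S9695
import Groth.Agent.Ega2.TensPow
import Groth.Agent.Mor.K386.Loc

/-!
# H-quasi-projective morphisms: base change, local comparison with quasi-projective morphisms
-/

set_option autoImplicit false

universe u

open CategoryTheory Limits AlgebraicGeometry TopologicalSpace

namespace K386.HQP

open Groth.Agent Groth.Agent.Dix.ProjProper Groth.Agent.K385.VeryAmpleBC

variable {X S X' S' : Scheme.{u}}

/-- Base change, for a class of morphisms into projective space which is stable under base change. -/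
theorem exists_of_isPullback (Q : MorphismProperty Scheme.{u}) [Q.IsStableUnderBaseChange]
    {f : X ⟶ S} {g : S' ⟶ S} {a : X' ⟶ X} {b : X' ⟶ S'} (H : IsPullback a b f g) {n : ℕ}
    (i : X ⟶ CohB1.ProjSpaceOver n S) (hi : Q i) (hf : i ≫ CohB1.ProjSpaceOver.toBase n S = f) :
    ∃ i' : X' ⟶ CohB1.ProjSpaceOver n S', Q i' ∧ i' ≫ CohB1.ProjSpaceOver.toBase n S' = b := by
  subst hf
  have h1 := isPullback_mapBase n g
  obtain ⟨i', hi', hp⟩ : ∃ i' : X' ⟶ CohB1.ProjSpaceOver n S',
      i' ≫ CohB1.ProjSpaceOver.toBase n S' = b ∧ IsPullback a i' i (mapBase n g) := by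
    refine ⟨h1.lift (a ≫ i) b (by rw [Category.assoc, H.w]), h1.lift_snd _ _ _, ?_⟩
    refine IsPullback.of_bot (h₃₁ := g) (v₂₁ := CohB1.ProjSpaceOver.toBase n S')
      (v₂₂ := CohB1.ProjSpaceOver.toBase n S) ?_ (h1.lift_fst _ _ _).symm h1
    rw [h1.lift_snd]
    exact H
  exact ⟨i', MorphismProperty.of_isPullback (P := Q) hp hi, hi'⟩

theorem isHProjective_of_isPullback {f : X ⟶ S} {g : S' ⟶ S} {a : X' ⟶ X} {b : X' ⟶ S'}
    (H : IsPullback a b f g) (hf : RelProj.IsHProjective f) : RelProj.IsHProjective b := by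
  obtain ⟨n, i, hi, h⟩ := hf
  obtain ⟨i', h1, h2⟩ := exists_of_isPullback @IsClosedImmersion H i hi h
  exact ⟨n, i', h1, h2⟩

set_option backward.isDefEq.respectTransparency.types false in
theorem isHQuasiProjective_of_isPullback {f : X ⟶ S} {g : S' ⟶ S} {a : X' ⟶ X} {b : X' ⟶ S'}
    (H : IsPullback a b f g) (hf : RelProj.IsHQuasiProjective f) :
    RelProj.IsHQuasiProjective b := by
  obtain ⟨n, i, hi, hq, h⟩ := hf
  obtain ⟨i', h1, h2⟩ := exists_of_isPullback (@IsImmersion ⊓ @QuasiCompact :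
    MorphismProperty Scheme.{u}) H i ⟨hi, hq⟩ h
  exact ⟨n, i', h1.1, h1.2, h2⟩

theorem isHQuasiProjective_restrict_of_le {f : X ⟶ S} {W V : S.Opens} (hWV : W ≤ V)
    (h : RelProj.IsHQuasiProjective (f ∣_ V)) : RelProj.IsHQuasiProjective (f ∣_ W) :=
  isHQuasiProjective_of_isPullback (isPullback_homOfLE f hWV) h

theorem isHProjective_restrict_of_le {f : X ⟶ S} {W V : S.Opens} (hWV : W ≤ V)
    (h : RelProj.IsHProjective (f ∣_ V)) : RelProj.IsHProjective (f ∣_ W) :=
  isHProjective_of_isPullback (isPullback_homOfLE f hWV) h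

/-- A quasi-compact morphism with a module very ample (for `P^n`) is H-quasi-projective. -/
theorem isHQuasiProjective_of_isRelVeryAmplePn {f : X ⟶ S} [QuasiCompact f] {L : X.Modules}
    (h : RelAmple.IsRelVeryAmplePn f L) : RelProj.IsHQuasiProjective f := by
  obtain ⟨n, i, hi, hf, -⟩ := h
  change i ≫ CohB1.ProjSpaceOver.toBase n S = f at hf
  have h1 : IsProper (CohB1.ProjSpaceOver.toBase n S) := inferInstance
  have h2 : QuasiCompact (i ≫ CohB1.ProjSpaceOver.toBase n S) := by rwa [hf]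
  exact ⟨n, i, hi, QuasiCompact.of_comp i (CohB1.ProjSpaceOver.toBase n S), hf⟩

/-- an H-quasi-projective morphism is of finite type and carries a module very ample for `P^n`. -/
theorem exists_isRelVeryAmplePn {f : X ⟶ S} (h : RelProj.IsHQuasiProjective f) :
    LocallyOfFiniteType f ∧ QuasiCompact f ∧ IsSeparated f ∧
      ∃ L : X.Modules, RelAmple.IsRelVeryAmplePn f L := by
  obtain ⟨n, i, hi, hq, hf⟩ := h
  have h1 : IsProper (CohB1.ProjSpaceOver.toBase n S) := inferInstance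
  have h2 : LocallyOfFiniteType (i ≫ CohB1.ProjSpaceOver.toBase n S) := inferInstance
  have h3 : QuasiCompact (i ≫ CohB1.ProjSpaceOver.toBase n S) := inferInstance
  have h4 : IsSeparated (i ≫ CohB1.ProjSpaceOver.toBase n S) := inferInstance
  rw [hf] at h2 h3 h4
  exact ⟨h2, h3, h4, (Scheme.Modules.pullback i).obj (Twist.twistOver n S 1), n, i, hi, hf,
    ⟨Iso.refl _⟩⟩

/-- A quasi-compact morphism with a module very ample for `P^n` is quasi-projective. -/
theorem isRelAmple_of_isRelVeryAmplePn {f : X ⟶ S} [QuasiCompact f] [LocallyOfFiniteType f]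
    {L : X.Modules} (hinv : PicF.IsInvertible L)
    (h : RelAmple.IsRelVeryAmplePn f L) : RelAmple.IsRelAmple f L := by
  refine (S9695.result f L hinv).mpr ⟨PUnit, fun _ ↦ ⊤, by simp, fun _ ↦ ⟨1, one_pos, ?_⟩⟩
  refine of_iso (of_isPullback (isPullback_morphismRestrict f ⊤).flip h) ?_
  exact ((Scheme.Modules.restrictFunctorIsoPullback _).app L).symm ≪≫
    (Scheme.Modules.restrictFunctor _).mapIso (Groth.Agent.Ega2.TensPow.powOne L).symm

theorem isQuasiProjective_of_isHQuasiProjective {f : X ⟶ S} (h : RelProj.IsHQuasiProjective f) :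
    RelProj.IsQuasiProjective f := by
  obtain ⟨h1, h2, h3, L, hL⟩ := exists_isRelVeryAmplePn h
  refine ⟨h1, h2, L, isRelAmple_of_isRelVeryAmplePn ?_ hL⟩
  obtain ⟨n, i, hi, hf, ⟨e⟩⟩ := hL
  exact Ega2.VeryAmpleAmple.isInvertible_of_iso e.symm
    (Fdesc.LocGen.isInvertible_pullback i (Ega2.VeryAmpleAmple.isInvertible_twistOver n S 1))

theorem isPullback_of_arrow_iso {f : X ⟶ S} {g : X' ⟶ S'} (e : Arrow.mk g ≅ Arrow.mk f) :
    IsPullback e.hom.left g f e.hom.right :=
  IsPullback.of_horiz_isIso ⟨e.hom.w⟩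

theorem isHQuasiProjective_iff_of_arrow_iso {f : X ⟶ S} {g : X' ⟶ S'}
    (e : Arrow.mk f ≅ Arrow.mk g) : RelProj.IsHQuasiProjective f ↔ RelProj.IsHQuasiProjective g :=
  ⟨fun h ↦ isHQuasiProjective_of_isPullback (isPullback_of_arrow_iso e.symm) h,
    fun h ↦ isHQuasiProjective_of_isPullback (isPullback_of_arrow_iso e) h⟩

theorem isHProjective_iff_of_arrow_iso {f : X ⟶ S} {g : X' ⟶ S'}
    (e : Arrow.mk f ≅ Arrow.mk g) : RelProj.IsHProjective f ↔ RelProj.IsHProjective g :=
  ⟨fun h ↦ isHProjective_of_isPullback (isPullback_of_arrow_iso e.symm) h,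
    fun h ↦ isHProjective_of_isPullback (isPullback_of_arrow_iso e) h⟩

/-- over an affine open of the base, a quasi-projective morphism is H-quasi-projective. -/
theorem isHQuasiProjective_restrict_affine {f : X ⟶ S} (h : RelProj.IsQuasiProjective f)
    (V : S.Opens) (hV : IsAffineOpen V) : RelProj.IsHQuasiProjective (f ∣_ V) := by
  obtain ⟨h1, h2, L, hL⟩ := h
  have hsep : IsSeparated f := S9691.result f L hL
  have : IsAffine V := hV
  obtain ⟨n₀, hn₀⟩ := Ega2.AmpleVery.exists_forall_isRelVeryAmplePn (f ∣_ V) (hL.2 ⟨V, hV⟩)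
  exact isHQuasiProjective_of_isRelVeryAmplePn (hn₀ n₀ le_rfl)

/-- the two notions agree locally on the base. -/
theorem locally_iff (f : X ⟶ S) :
    (∀ s : S, ∃ U : S.Opens, s ∈ U ∧ RelProj.IsQuasiProjective (f ∣_ U)) ↔
      (∀ s : S, ∃ U : S.Opens, s ∈ U ∧ RelProj.IsHQuasiProjective (f ∣_ U)) := by
  refine forall_congr' fun s ↦ ⟨?_, ?_⟩
  · rintro ⟨U, hsU, h⟩
    obtain ⟨W, hW, hsW, -⟩ := exists_isAffineOpen_mem_and_subset (X := U) (U := ⊤) (x := ⟨s, hsU⟩)
      trivial
    refine ⟨U.ι ''ᵁ W, ⟨⟨s, hsU⟩, hsW, rfl⟩, ?_⟩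
    rw [← isHQuasiProjective_iff_of_arrow_iso (morphismRestrictRestrict f U W)]
    exact isHQuasiProjective_restrict_affine h W hW
  · rintro ⟨U, hsU, h⟩
    exact ⟨U, hsU, isQuasiProjective_of_isHQuasiProjective h⟩

end K386.HQP
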