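import Groth.Agent.Ega2.AmpleVery
import Groth.Agent.Fdesc.LocGenAmple

/-!
# A criterion for very ampleness (via `P^n`) relative to an arbitrary base

`isRelVeryAmplePn_of_sections` : sections `s 0, …, s n` of `M` on `X`, a subfamily `K` whose generating
loci `X_{s j}` are affine and cover `X`, affine opens `V j` of the base with `q (X_{s j}) ⊆ V j`, such
that for `j ∈ K` the functions on `X_{s j}` are generated by the ratios `s k / s j` and the functions on
`V j`: then `M` is very ample relative to `q`. The base `Y` is arbitrary.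
-/

set_option autoImplicit false
universe u
open CategoryTheory CategoryTheory.Limits AlgebraicGeometry TopologicalSpace Opposite
open Groth.Agent.Fdesc.LocGen
open Groth.Agent.VarietyB Groth.Agent.VarietyB.ProjGlue
open Groth.Agent.Ega2 Groth.Agent.Ega2.VeryAmpleCrit

namespace K386.VeryAmple

section Product

variable {X P₀ T Y : Scheme.{u}} (t : P₀ ⟶ T) (s : Y ⟶ T)

/-- In a fibre product over an affine base, the intersection of the preimages of affine opens is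
affine. -/
theorem isAffineOpen_fst_inf_snd [IsAffine T]
    {U : P₀.Opens} (hU : IsAffineOpen U) {V : Y.Opens} (hV : IsAffineOpen V) :
    IsAffineOpen (pullback.fst t s ⁻¹ᵁ U ⊓ pullback.snd t s ⁻¹ᵁ V) := by
  have H := IsPullback.of_hasPullback t s
  have hS : IsAffineOpen (⊤ : T.Opens) := isAffineOpen_top T
  have : IsAffine U := hU
  have : IsAffine V := hV
  have : IsAffine (⊤ : T.Opens) := hS
  exact .of_isIso (Scheme.Hom.isPullback_resLE H (US := ⊤) (UX := U) (UT := V) le_top le_top rfl).isoPullback.hom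

/-- Surjectivity of `Γ(P₀ ×_T Y, pr₁⁻¹ D ∩ pr₂⁻¹ V) → Γ(X, U)` for a morphism `X ⟶ P₀ ×_T Y`, when the
target is generated as a ring by the images of `Γ(P₀, D)` and `Γ(Y, V)`. -/
theorem app_surjective_of_closure (φ : X ⟶ pullback t s) (D : P₀.Opens) (V : Y.Opens)
    {U : X.Opens} (hU : φ ⁻¹ᵁ (pullback.fst t s ⁻¹ᵁ D ⊓ pullback.snd t s ⁻¹ᵁ V) = U)
    (hD : U ≤ (φ ≫ pullback.fst t s) ⁻¹ᵁ D) (hV : U ≤ (φ ≫ pullback.snd t s) ⁻¹ᵁ V)
    (h : Subring.closure (Set.range ((φ ≫ pullback.fst t s).appLE D U hD) ∪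
      Set.range ((φ ≫ pullback.snd t s).appLE V U hV)) = ⊤) :
    Function.Surjective (φ.app (pullback.fst t s ⁻¹ᵁ D ⊓ pullback.snd t s ⁻¹ᵁ V)) := by
  subst hU
  rw [← RingHom.range_eq_top, eq_top_iff]
  change ⊤ ≤ (φ.app (pullback.fst t s ⁻¹ᵁ D ⊓ pullback.snd t s ⁻¹ᵁ V)).hom.range
  refine h.symm.le.trans ?_
  rw [Subring.closure_le]
  rintro a (⟨b, rfl⟩ | ⟨b, rfl⟩)
  · refine ⟨(pullback.fst t s).appLE D _ inf_le_left b, ?_⟩
    have h1 := Scheme.Hom.appLE_comp_appLE φ (pullback.fst t s) D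
      (pullback.fst t s ⁻¹ᵁ D ⊓ pullback.snd t s ⁻¹ᵁ V)
      (φ ⁻¹ᵁ (pullback.fst t s ⁻¹ᵁ D ⊓ pullback.snd t s ⁻¹ᵁ V)) inf_le_left le_rfl
    rw [← h1, Scheme.Hom.app_eq_appLE]
    rfl
  · refine ⟨(pullback.snd t s).appLE V _ inf_le_right b, ?_⟩
    have h1 := Scheme.Hom.appLE_comp_appLE φ (pullback.snd t s) V
      (pullback.fst t s ⁻¹ᵁ D ⊓ pullback.snd t s ⁻¹ᵁ V)
      (φ ⁻¹ᵁ (pullback.fst t s ⁻¹ᵁ D ⊓ pullback.snd t s ⁻¹ᵁ V)) inf_le_right le_rfl
    rw [← h1, Scheme.Hom.app_eq_appLE]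
    rfl

end Product

theorem appLE_congr_hom {X Y : Scheme.{u}} {f g : X ⟶ Y} (h : f = g) {U : Y.Opens} {V : X.Opens}
    (e : V ≤ f ⁻¹ᵁ U) (e' : V ≤ g ⁻¹ᵁ U) : f.appLE U V e = g.appLE U V e' := by
  subst h
  rfl

attribute [local instance] MvPolynomial.gradedAlgebra

variable {X Y : Scheme.{u}}

/-- Criterion for very ampleness relative to an arbitrary base. -/
theorem isRelVeryAmplePn_of_sections (q : X ⟶ Y) (M : X.Modules) {n : ℕ}
    (s : Fin (n + 1) → (Coh.structureModule X ⟶ M)) (K : Set (Fin (n + 1))) (B : K → Y.Opens)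
    (hB : ∀ j, IsAffineOpen (B j)) (hBle : ∀ j : K, CohB1.genLocus M (s j) ≤ q ⁻¹ᵁ B j)
    (hcov : ⨆ j : K, CohB1.genLocus M (s j) = ⊤) (haff : ∀ j : K, IsAffineOpen (CohB1.genLocus M (s j)))
    (hgen : ∀ j : K, Subring.closure
      ({a : Γ(X, CohB1.genLocus M (s j)) | ∃ k, sec (s k) (CohB1.genLocus M (s j)) =
        a • sec (s j) (CohB1.genLocus M (s j))} ∪
        Set.range (q.appLE (B j) (CohB1.genLocus M (s j)) (hBle j))) = ⊤) :
    RelAmple.IsRelVeryAmplePn q M := by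
  have hcov' : ⨆ j, CohB1.genLocus M (s j) = ⊤ := by
    rw [eq_top_iff, ← hcov]
    exact iSup_le fun j => le_iSup (fun j => CohB1.genLocus M (s j)) j.1
  let D : CoordData X (Fin (n + 1)) := PnMap.coordData s hcov'
  let p : X ⟶ Spec (CommRingCat.of (ULift.{u} ℤ)) := specULiftZIsTerminal.from X
  let φ : X ⟶ CohB1.ProjSpace n (ULift.{u} ℤ) := D.toProjSpace p
  let g : X ⟶ CohB1.ProjSpaceOver n Y := pullback.lift φ q (specULiftZIsTerminal.hom_ext _ _)
  have hg1 : g ≫ pullback.fst (CohB1.ProjSpace.toSpec n (ULift.{u} ℤ)) (specULiftZIsTerminal.from Y) = φ :=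
    pullback.lift_fst _ _ _
  have hg2 : g ≫ pullback.snd (CohB1.ProjSpace.toSpec n (ULift.{u} ℤ)) (specULiftZIsTerminal.from Y) = q :=
    pullback.lift_snd _ _ _
  let D₀ : Fin (n + 1) → (CohB1.ProjSpace n (ULift.{u} ℤ)).Opens := fun k =>
    Proj.basicOpen (MvPolynomial.homogeneousSubmodule (Fin (n + 1)) (ULift.{u} ℤ)) (MvPolynomial.X k)
  have hD₀ : ∀ k, φ ⁻¹ᵁ D₀ k = CohB1.genLocus M (s k) := fun k =>
    D.preimage_basicOpen (fun i k => PnMap.basicOpen_ratio s i k) p k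
  let V : Fin (n + 1) → (CohB1.ProjSpaceOver n Y).Opens := fun k =>
    pullback.fst (CohB1.ProjSpace.toSpec n (ULift.{u} ℤ)) (specULiftZIsTerminal.from Y) ⁻¹ᵁ D₀ k
  have hV : ∀ k, g ⁻¹ᵁ V k = CohB1.genLocus M (s k) := by
    intro k
    rw [← hD₀ k, ← hg1]
    rfl
  let r₀ : ∀ i, Fin (n + 1) → Γ(CohB1.ProjSpace n (ULift.{u} ℤ), D₀ i) := fun i j =>
    ProjStd.ratio (Fin (n + 1)) (ULift.{u} ℤ) i j
  let r : ∀ i, Fin (n + 1) → Γ(CohB1.ProjSpaceOver n Y, V i) := fun i j =>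
    (pullback.fst (CohB1.ProjSpace.toSpec n (ULift.{u} ℤ)) (specULiftZIsTerminal.from Y)).app (D₀ i) (r₀ i j)
  have hratio : ∀ i j, g.app (V i) (r i j) = ores (hV i).le (PnMap.ratio s i j) := by
    intro i j
    have h1 : PnMap.ratio s i j = φ.appLE (D₀ i) (CohB1.genLocus M (s i)) (hD₀ i).ge (r₀ i j) :=
      (PnMap.appLE_ratio D p i j (hD₀ i).ge).symm
    rw [h1, ores_appLE]
    exact app_app_eq_appLE g _ φ hg1 (D₀ i) _ (r₀ i j)
  refine ⟨n, g, ?_, hg2, ?_⟩
  · -- immersion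
    let W : K → (CohB1.ProjSpaceOver n Y).Opens := fun k =>
      pullback.fst (CohB1.ProjSpace.toSpec n (ULift.{u} ℤ)) (specULiftZIsTerminal.from Y) ⁻¹ᵁ D₀ k ⊓
      pullback.snd (CohB1.ProjSpace.toSpec n (ULift.{u} ℤ)) (specULiftZIsTerminal.from Y) ⁻¹ᵁ B k
    have hW : ∀ k : K, g ⁻¹ᵁ W k = CohB1.genLocus M (s k) := by
      intro k
      have h1 : g ⁻¹ᵁ W k = g ⁻¹ᵁ V k ⊓ q ⁻¹ᵁ B k := by
        rw [← hg2]
        rfl
      rw [h1, hV]
      exact inf_eq_left.mpr (hBle k)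
    refine ImmCrit.isImmersion_of_affine_family g (ι := K) W (fun k => ?_) (fun k => ?_) ?_
      (fun k => ?_)
    · exact isAffineOpen_fst_inf_snd _ _ (Proj.isAffineOpen_basicOpen _ _
        (MvPolynomial.isHomogeneous_X _ _ : MvPolynomial.X (k : Fin (n + 1)) ∈
          MvPolynomial.homogeneousSubmodule (Fin (n + 1)) (ULift.{u} ℤ) 1) Nat.one_pos) (hB k)
    · rw [hW]; exact haff k
    · rw [← hcov]
      exact iSup_congr fun k => hW k
    · have e1 : CohB1.genLocus M (s k) ≤ (g ≫ pullback.fst (CohB1.ProjSpace.toSpec n (ULift.{u} ℤ))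
          (specULiftZIsTerminal.from Y)) ⁻¹ᵁ D₀ k := by
        rw [hg1]
        exact (hD₀ k).ge
      have e2 : CohB1.genLocus M (s k) ≤ (g ≫ pullback.snd (CohB1.ProjSpace.toSpec n (ULift.{u} ℤ))
          (specULiftZIsTerminal.from Y)) ⁻¹ᵁ B k := by
        rw [hg2]
        exact hBle k
      refine app_surjective_of_closure _ _ g (D₀ k) (B k) (hW k) e1 e2 ?_
      rw [eq_top_iff, ← hgen k]
      refine Subring.closure_mono ?_
      rintro a (⟨j, ha⟩ | ⟨b, rfl⟩)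
      · left
        have h1 : a = PnMap.ratio s k j := by
          apply (isGen_sec_genLocus (s k)).ext
          rw [← ha, ← PnMap.ratio_spec]
        refine ⟨r₀ k j, ?_⟩
        rw [h1]
        have h2 : PnMap.ratio s k j = φ.appLE (D₀ k) (CohB1.genLocus M (s k)) (hD₀ k).ge (r₀ k j) :=
          (PnMap.appLE_ratio D p k j (hD₀ k).ge).symm
        rw [h2]
        exact congr(($(appLE_congr_hom hg1 e1 (hD₀ k).ge)).hom (r₀ k j))
      · right
        refine ⟨b, ?_⟩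
        exact congr(($(appLE_congr_hom hg2 e2 (hBle k))).hom b)
  · have hr : ∀ i j, res (Twist.twistOver n Y 1) (inf_le_right : V i ⊓ V j ≤ V j)
        (pullSec (pullback.fst (CohB1.ProjSpace.toSpec n (ULift.{u} ℤ)) (specULiftZIsTerminal.from Y))
          (gen (ULift.{u} ℤ) j)) =
        ores (inf_le_left : V i ⊓ V j ≤ V i) (r i j) • res (Twist.twistOver n Y 1) (inf_le_left : V i ⊓ V j ≤ V i)
        (pullSec (pullback.fst (CohB1.ProjSpace.toSpec n (ULift.{u} ℤ)) (specULiftZIsTerminal.from Y))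
          (gen (ULift.{u} ℤ) i)) := by
      intro i j
      exact pullSec_rel (pullback.fst (CohB1.ProjSpace.toSpec n (ULift.{u} ℤ)) (specULiftZIsTerminal.from Y))
        (r₀ i j) (gen (ULift.{u} ℤ) i) (gen (ULift.{u} ℤ) j) (gen_rel (R := ULift.{u} ℤ) i j)
    have hcV : ⨆ i, g ⁻¹ᵁ V i = ⊤ := by
      rw [← hcov']
      exact iSup_congr fun k => hV k
    obtain ⟨e⟩ := PnMap.pullback_iso_of_ratio g (N := Twist.twistOver n Y 1) (M := M) V
      (fun i => pullSec _ (gen (ULift.{u} ℤ) i)) (fun i => (isGen_gen i).pullSec _) r hr s hcV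
      (fun i => (hV i).le) (by
        intro i j
        rw [hratio, ← PnMap.ratio_spec_le s i j (hV i).le])
    exact ⟨e.symm⟩

/-- `isRelVeryAmplePn_of_sections` for an arbitrary finite nonempty index type. -/
theorem isRelVeryAmplePn_of_family (q : X ⟶ Y) (M : X.Modules) {J : Type*} [Finite J] [Nonempty J]
    (s : J → (Coh.structureModule X ⟶ M)) (K : Set J) (B : K → Y.Opens)
    (hB : ∀ j, IsAffineOpen (B j)) (hBle : ∀ j : K, CohB1.genLocus M (s j) ≤ q ⁻¹ᵁ B j)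
    (hcov : ⨆ j : K, CohB1.genLocus M (s j) = ⊤) (haff : ∀ j : K, IsAffineOpen (CohB1.genLocus M (s j)))
    (hgen : ∀ j : K, Subring.closure
      ({a : Γ(X, CohB1.genLocus M (s j)) | ∃ k, sec (s k) (CohB1.genLocus M (s j)) =
        a • sec (s j) (CohB1.genLocus M (s j))} ∪
        Set.range (q.appLE (B j) (CohB1.genLocus M (s j)) (hBle j))) = ⊤) :
    RelAmple.IsRelVeryAmplePn q M := by
  obtain ⟨N, ⟨e⟩⟩ := Finite.exists_equiv_fin J
  obtain ⟨n, rfl⟩ : ∃ n, N = n + 1 := by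
    rcases N with _ | n
    · exact (IsEmpty.false (e (Classical.arbitrary J))).elim
    · exact ⟨n, rfl⟩
  refine isRelVeryAmplePn_of_sections q M (fun k => s (e.symm k)) (e.symm ⁻¹' K)
    (fun j ↦ B ⟨e.symm j, j.2⟩) (fun j ↦ hB _) (fun j ↦ hBle ⟨e.symm j, j.2⟩) ?_ ?_ ?_
  · rw [eq_top_iff, ← hcov]
    refine iSup_le fun j => le_iSup_of_le (f := fun k : (e.symm ⁻¹' K) => CohB1.genLocus M (s (e.symm k)))
      ⟨e j, by simp⟩ ?_
    simp
  · exact fun j => haff ⟨e.symm j, j.2⟩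
  · intro j
    rw [eq_top_iff, ← hgen ⟨e.symm j, j.2⟩]
    refine Subring.closure_mono (Set.union_subset_union_left _ ?_)
    rintro a ⟨k, hk⟩
    exact ⟨e k, by simpa using hk⟩

/-- Sections of the large powers of an ample invertible module, with generating loci subordinate to a
family of neighbourhoods. -/
theorem exists_ample_sections [QuasiSeparatedSpace X] {L : X.Modules} (hL : CohB1.IsAmple L)
    (N : X → X.Opens) (hN : ∀ x, x ∈ N x)
    (C : ∀ (_ : X) (U : X.Opens), Set Γ(X, U))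
    (hC : ∀ (x : X) (U : X.Opens), IsAffineOpen U → U ≤ N x → (C x U).Finite) :
    ∃ (ι : Type) (_ : Finite ι) (x : ι → X) (U : ι → X.Opens), (⨆ i, U i = ⊤) ∧
      (∀ i, IsAffineOpen (U i)) ∧ (∀ i, U i ≤ N (x i)) ∧
      ∃ n₀ : ℕ, ∀ n, n₀ ≤ n → ∀ i, ∃ v : Coh.structureModule X ⟶ CohB1.tensorPow L n,
        CohB1.genLocus _ v = U i ∧
        ∀ c ∈ C (x i) (U i), ∃ w : Coh.structureModule X ⟶ CohB1.tensorPow L n,
          sec w (U i) = c • sec v (U i) := by
  classical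
  have hinv := hL.1
  have hcpt : CompactSpace X := hL.2.1
  have h1 : ∀ x : X, ∃ U : X.Opens, x ∈ U ∧ IsAffineOpen U ∧ U ≤ N x ∧ ∃ n₀ : ℕ, ∀ n, n₀ ≤ n →
      ∃ v : Coh.structureModule X ⟶ CohB1.tensorPow L n, CohB1.genLocus _ v = U ∧
        ∀ c ∈ C x U, ∃ w : Coh.structureModule X ⟶ CohB1.tensorPow L n, sec w U = c • sec v U := by
    intro x
    obtain ⟨W, e, hxW, he⟩ := (isInvertible_iff L).mp hinv x
    obtain ⟨d, t, hxt, htW, haff⟩ := AmpleSec.exists_affine_genLocus_nhd hL (W ⊓ N x) x ⟨hxW, hN x⟩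
    refine ⟨CohB1.genLocus _ t, hxt, haff, htW.trans inf_le_right, ?_⟩
    exact AmpleSec.exists_sections hinv (Nat.succ_pos d) t (res L (htW.trans inf_le_left) e)
      (he.res (htW.trans inf_le_left)) (C x _) (hC _ _ haff (htW.trans inf_le_right))
  choose U hxU hU hUN n₀ hn₀ using h1
  obtain ⟨s, hs⟩ := isCompact_univ.elim_finite_subcover (fun x : X => (U x : Set X)) (fun x => (U x).2)
    (fun x _ => Set.mem_iUnion.mpr ⟨x, hxU x⟩)
  obtain ⟨k, ⟨eqv⟩⟩ := Finite.exists_equiv_fin (s : Type _)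
  refine ⟨Fin k, inferInstance, fun i ↦ eqv.symm i, fun i => U (eqv.symm i), ?_, fun i => hU _,
    fun i ↦ hUN _, s.sup n₀, fun n hn i => ?_⟩
  · ext x
    simp only [Opens.coe_iSup, Set.mem_iUnion, Opens.coe_top, Set.mem_univ, iff_true]
    obtain ⟨y, hy, hxy⟩ := Set.mem_iUnion₂.mp (hs (Set.mem_univ x))
    exact ⟨eqv ⟨y, hy⟩, by simpa using hxy⟩
  · exact hn₀ _ n ((Finset.le_sup (f := n₀) (eqv.symm i).2).trans hn)

theorem appLE_congr_open {X Y : Scheme.{u}} (f : X ⟶ Y) {U : Y.Opens} {V V' : X.Opens} (h : V' ≤ V)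
    (e : V ≤ f ⁻¹ᵁ U) (e' : V' ≤ f ⁻¹ᵁ U) (r : Γ(Y, U)) :
    ores h (f.appLE U V e r) = f.appLE U V' e' r := by
  have := Scheme.Hom.appLE_map f e (homOfLE h).op
  exact congr(($this).hom r)

/-- Large powers of an ample module are very ample relative to an arbitrary base, in the sense of
immersions to `P^n`. -/
theorem exists_forall_isRelVeryAmplePn (q : X ⟶ Y) [LocallyOfFiniteType q]
    {L : X.Modules} (hL : CohB1.IsAmple L) :
    ∃ n₀ : ℕ, ∀ n, n₀ ≤ n → RelAmple.IsRelVeryAmplePn q (CohB1.tensorPow L n) := by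
  classical
  have hqs : QuasiSeparatedSpace X := Groth.Agent.Fdesc.LocGen.quasiSeparatedSpace_of_isAmple hL
  -- affine neighbourhoods of the image points
  have hV : ∀ x : X, ∃ V : Y.Opens, IsAffineOpen V ∧ q x ∈ V := fun x ↦ by
    obtain ⟨V, hV, hxV, -⟩ := exists_isAffineOpen_mem_and_subset (U := ⊤) (x := q x) trivial
    exact ⟨V, hV, hxV⟩
  choose V hVaff hxV using hV
  have hft : ∀ (x : X) (U : X.Opens), IsAffineOpen U → ∀ h : U ≤ q ⁻¹ᵁ V x, ∃ S : Set Γ(X, U), S.Finite ∧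
      Subring.closure (S ∪ Set.range (q.appLE (V x) U h)) = ⊤ := by
    intro x U hU h
    have h1 : (q.appLE (V x) U h).hom.FiniteType :=
      LocallyOfFiniteType.finiteType_appLE q (hVaff x) hU h
    algebraize [(q.appLE (V x) U h).hom]
    obtain ⟨S, hS⟩ := (inferInstance : Algebra.FiniteType Γ(Y, V x) Γ(X, U)).out
    refine ⟨S, S.finite_toSet, ?_⟩
    have h2 := Algebra.adjoin_eq_ring_closure (R := Γ(Y, V x)) (S : Set Γ(X, U))
    rw [hS, Set.union_comm] at h2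
    refine Eq.trans ?_ h2.symm
    rfl
  choose! C hCfin hCgen using hft
  obtain ⟨ι, hι, x, U, hUcov, hUaff, hUV, n₀, hn₀⟩ := exists_ample_sections hL
    (fun x ↦ q ⁻¹ᵁ V x) hxV C (fun x U hU h ↦ hCfin x U hU h)
  refine ⟨n₀, fun n hn => ?_⟩
  choose v hv w hw using hn₀ n hn
  have hfin : ∀ i, Finite (C (x i) (U i)) := fun i => (hCfin (x i) (U i) (hUaff i) (hUV i))
  let J := Option (Σ i : ι, Option (C (x i) (U i)))
  let s : J → (Coh.structureModule X ⟶ CohB1.tensorPow L n) := fun j =>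
    match j with
    | none => 0
    | some ⟨i, none⟩ => v i
    | some ⟨i, some c⟩ => w i c c.2
  have hsel : ∀ k : (Set.range fun i : ι => (some ⟨i, none⟩ : J)), ∃ i, (some ⟨i, none⟩ : J) = k :=
    fun k ↦ k.2
  choose sel hselk using hsel
  have hgs : ∀ k : (Set.range fun i : ι => (some ⟨i, none⟩ : J)), CohB1.genLocus _ (s k) = U (sel k) := by
    intro k
    rw [← hselk k]
    exact hv _
  refine isRelVeryAmplePn_of_family q _ s (Set.range fun i : ι => some ⟨i, none⟩)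
    (fun k ↦ V (x (sel k))) (fun k ↦ hVaff _) (fun k ↦ (hgs k).le.trans (hUV _)) ?_ ?_ ?_
  · rw [eq_top_iff, ← hUcov]
    refine iSup_le fun i => le_iSup_of_le
      (f := fun k : (Set.range fun i : ι => (some ⟨i, none⟩ : J)) => CohB1.genLocus _ (s k)) ⟨some ⟨i, none⟩, i, rfl⟩ ?_
    exact (hv i).ge
  · intro k
    rw [hgs]
    exact hUaff _
  · intro k
    refine VeryAmpleCrit.closure_eq_top_of_le (U := U (sel k)) (W := CohB1.genLocus _ (s k)) (hgs k) _
      (hCgen (x (sel k)) (U (sel k)) (hUaff _) (hUV _)) _ ?_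
    rintro a (ha | ⟨r, rfl⟩)
    · refine Subring.subset_closure (Or.inl ⟨some ⟨sel k, some ⟨a, ha⟩⟩, ?_⟩)
      have h5 : s k = v (sel k) := by rw [← hselk k]
      change sec (w (sel k) a ha) _ = _ • sec (s k) _
      rw [← res_sec (w (sel k) a ha) (hgs k).le, hw (sel k) a ha, res_smul, res_sec]
      exact congrArg (fun z ↦ ores (hgs k).le a • sec z (CohB1.genLocus _ (s k))) h5.symm
    · refine Subring.subset_closure (Or.inr ⟨r, ?_⟩)
      exact (appLE_congr_open q (hgs k).le _ _ r).symm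

end K386.VeryAmple
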