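import Groth.Agent.Mor.K386.ImmAff
import Mathlib.AlgebraicGeometry.Morphisms.FiniteType

/-!
# `HImm` for rings generated by functions of the base and a set of functions

`exists_finite`: for `q : X ⟶ Y` locally of finite type, `U` an affine open of `Y`, `W ≤ q ⁻¹ U` quasi-compact: if
`W ⟶ Spec R` is an immersion where `R` is generated by the functions of `U` and a set `S`, then a finite subset of `S`
is enough.
-/

set_option autoImplicit false
universe u
open CategoryTheory CategoryTheory.Limits AlgebraicGeometry TopologicalSpace Opposite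

namespace K386.HImmFin

open Groth.Agent.Fdesc.LocGen K43.HomImm K386.ImmAff

/-- The elements `c` with `c * ρ f ^ n = ρ b` for some `b` in the subring. -/
def fracSub {A B : Type*} [CommRing A] [CommRing B] (ρ : A →+* B) (R : Subring A) {f : A} (hf : f ∈ R) :
    Subring B where
  carrier := {c | ∃ (n : ℕ), ∃ b ∈ R, c * ρ f ^ n = ρ b}
  mul_mem' := by
    rintro c c' ⟨n, b, hb, h⟩ ⟨n', b', hb', h'⟩
    refine ⟨n + n', b * b', mul_mem hb hb', ?_⟩
    rw [map_mul, ← h, ← h', pow_add]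
    ring
  one_mem' := ⟨0, 1, one_mem _, by rw [pow_zero, mul_one, map_one]⟩
  add_mem' := by
    rintro c c' ⟨n, b, hb, h⟩ ⟨n', b', hb', h'⟩
    refine ⟨n + n', b * f ^ n' + b' * f ^ n, add_mem (mul_mem hb (pow_mem hf _)) (mul_mem hb' (pow_mem hf _)), ?_⟩
    rw [map_add, map_mul, map_mul, map_pow, map_pow, ← h, ← h', pow_add]
    ring
  zero_mem' := ⟨0, 0, zero_mem _, by rw [pow_zero, mul_one, map_zero]⟩
  neg_mem' := by
    rintro c ⟨n, b, hb, h⟩
    exact ⟨n, -b, neg_mem hb, by rw [map_neg, ← h, neg_mul]⟩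

theorem mem_fracSub {A B : Type*} [CommRing A] [CommRing B] (ρ : A →+* B) (R : Subring A) {f : A} (hf : f ∈ R)
    {c : B} : c ∈ fracSub ρ R hf ↔ ∃ (n : ℕ), ∃ b ∈ R, c * ρ f ^ n = ρ b := Iff.rfl

theorem map_mem_fracSub {A B : Type*} [CommRing A] [CommRing B] (ρ : A →+* B) (R : Subring A) {f : A} (hf : f ∈ R)
    {b : A} (hb : b ∈ R) : ρ b ∈ fracSub ρ R hf := ⟨0, b, hb, by rw [pow_zero, mul_one]⟩

/-- An element of the ring generated by `T ∪ S` is in the ring generated by `T` and a finite subset of `S`. -/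
theorem exists_finite_mem {A : Type*} [CommRing A] (T S : Set A) {a : A} (ha : a ∈ Subring.closure (T ∪ S)) :
    ∃ S₀ ⊆ S, S₀.Finite ∧ a ∈ Subring.closure (T ∪ S₀) := by
  have hmono : ∀ {S₀ S₁ : Set A}, S₀ ⊆ S₁ → Subring.closure (T ∪ S₀) ≤ Subring.closure (T ∪ S₁) := fun h =>
    Subring.closure_mono (Set.union_subset_union_right _ h)
  induction ha using Subring.closure_induction with
  | mem x hx =>
    rcases hx with hx | hx
    · exact ⟨∅, Set.empty_subset _, Set.finite_empty, Subring.subset_closure (Or.inl hx)⟩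
    · exact ⟨{x}, Set.singleton_subset_iff.mpr hx, Set.finite_singleton x,
        Subring.subset_closure (Or.inr rfl)⟩
  | zero => exact ⟨∅, Set.empty_subset _, Set.finite_empty, zero_mem _⟩
  | one => exact ⟨∅, Set.empty_subset _, Set.finite_empty, one_mem _⟩
  | add x y _ _ hx hy =>
    obtain ⟨S₀, h1, h2, h3⟩ := hx
    obtain ⟨S₁, h4, h5, h6⟩ := hy
    exact ⟨S₀ ∪ S₁, Set.union_subset h1 h4, h2.union h5, add_mem (hmono Set.subset_union_left h3)
      (hmono Set.subset_union_right h6)⟩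
  | neg x _ hx =>
    obtain ⟨S₀, h1, h2, h3⟩ := hx
    exact ⟨S₀, h1, h2, neg_mem h3⟩
  | mul x y _ _ hx hy =>
    obtain ⟨S₀, h1, h2, h3⟩ := hx
    obtain ⟨S₁, h4, h5, h6⟩ := hy
    exact ⟨S₀ ∪ S₁, Set.union_subset h1 h4, h2.union h5, mul_mem (hmono Set.subset_union_left h3)
      (hmono Set.subset_union_right h6)⟩

variable {X Y : Scheme.{u}} (q : X ⟶ Y) [LocallyOfFiniteType q] {U : Y.Opens} (hU : IsAffineOpen U)
  {W : X.Opens} (hW : W ≤ q ⁻¹ᵁ U) (hc : IsCompact (W : Set X))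

include hU hc in
theorem exists_finite (S : Set Γ(X, W)) (h : HImm W (Subring.closure (Set.range (q.appLE U W hW) ∪ S))) :
    ∃ S₀ ⊆ S, S₀.Finite ∧ HImm W (Subring.closure (Set.range (q.appLE U W hW) ∪ S₀)) := by
  classical
  rw [himm_iff] at h
  choose! f hfR hxf haf hf using h
  obtain ⟨t, htW, ht⟩ := hc.elim_nhds_subcover' (fun x _ => (X.basicOpen (f x) : Set X))
    (fun x hx => (X.basicOpen (f x)).2.mem_nhds (hxf x hx)) |> fun ⟨t, ht⟩ =>
      (⟨t.image Subtype.val, by simp +contextual, fun x hx => by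
        obtain ⟨y, hy, hxy⟩ := Set.mem_iUnion₂.mp (ht hx)
        exact Set.mem_iUnion₂.mpr ⟨y.1, Finset.mem_image_of_mem _ hy, hxy⟩⟩ :
        ∃ t : Finset X, (∀ x ∈ t, x ∈ W) ∧ (W : Set X) ⊆ ⋃ x ∈ t, (X.basicOpen (f x) : Set X))
  have hle : ∀ x, X.basicOpen (f x) ≤ q ⁻¹ᵁ U := fun x => (X.basicOpen_le _).trans hW
  have hft : ∀ x ∈ W, ∃ C : Set Γ(X, X.basicOpen (f x)), C.Finite ∧
      Subring.closure (C ∪ Set.range (q.appLE U (X.basicOpen (f x)) (hle x))) = ⊤ := by
    intro x hx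
    have h1 : (q.appLE U (X.basicOpen (f x)) (hle x)).hom.FiniteType :=
      LocallyOfFiniteType.finiteType_appLE q hU (haf x hx) (hle x)
    algebraize [(q.appLE U (X.basicOpen (f x)) (hle x)).hom]
    obtain ⟨S, hS⟩ := (inferInstance : Algebra.FiniteType Γ(Y, U) Γ(X, X.basicOpen (f x))).out
    refine ⟨S, S.finite_toSet, ?_⟩
    have h2 := Algebra.adjoin_eq_ring_closure (R := Γ(Y, U)) (S : Set Γ(X, X.basicOpen (f x)))
    rw [hS, Set.union_comm] at h2
    refine Eq.trans ?_ h2.symm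
    rfl
  choose! C hCfin hCgen using hft
  choose! n b hbR hb using hf
  choose F hFS hFfin hF using fun (a : Γ(X, W)) (ha : a ∈ Subring.closure (Set.range (q.appLE U W hW) ∪ S)) =>
    exists_finite_mem _ S ha
  let F' : Γ(X, W) → Set Γ(X, W) := fun a => if ha : a ∈ Subring.closure (Set.range (q.appLE U W hW) ∪ S) then
    F a ha else ∅
  have hF'S : ∀ a, F' a ⊆ S := fun a => by
    by_cases ha : a ∈ Subring.closure (Set.range (q.appLE U W hW) ∪ S)
    · simp only [F', dif_pos ha]; exact hFS a ha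
    · simp only [F', dif_neg ha]; exact Set.empty_subset _
  have hF'fin : ∀ a, (F' a).Finite := fun a => by
    by_cases ha : a ∈ Subring.closure (Set.range (q.appLE U W hW) ∪ S)
    · simp only [F', dif_pos ha]; exact hFfin a ha
    · simp only [F', dif_neg ha]; exact Set.finite_empty
  have hF' : ∀ a ∈ Subring.closure (Set.range (q.appLE U W hW) ∪ S),
      a ∈ Subring.closure (Set.range (q.appLE U W hW) ∪ F' a) := fun a ha => by
    simp only [F', dif_pos ha]; exact hF a ha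
  let S₀ : Set Γ(X, W) := ⋃ x ∈ t, (F' (f x) ∪ ⋃ c ∈ C x, F' (b x c))
  have hmono : ∀ {S₀ S₁ : Set Γ(X, W)}, S₀ ⊆ S₁ → Subring.closure (Set.range (q.appLE U W hW) ∪ S₀) ≤
      Subring.closure (Set.range (q.appLE U W hW) ∪ S₁) := fun h =>
    Subring.closure_mono (Set.union_subset_union_right _ h)
  have hfS : ∀ x ∈ t, f x ∈ Subring.closure (Set.range (q.appLE U W hW) ∪ S₀) := fun x hx =>
    hmono (S₀ := F' (f x)) (fun a ha => Set.mem_iUnion₂.mpr ⟨x, hx, Or.inl ha⟩) (hF' _ (hfR x (htW x hx)))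
  have hbS : ∀ x ∈ t, ∀ c ∈ C x, b x c ∈ Subring.closure (Set.range (q.appLE U W hW) ∪ S₀) :=
    fun x hx c hc => hmono (S₀ := F' (b x c)) (fun a ha => Set.mem_iUnion₂.mpr ⟨x, hx, Or.inr
      (Set.mem_iUnion₂.mpr ⟨c, hc, ha⟩)⟩) (hF' _ (hbR x (htW x hx) c))
  refine ⟨S₀, ?_, ?_, ?_⟩
  · refine Set.iUnion₂_subset fun x _ => Set.union_subset (hF'S _) (Set.iUnion₂_subset fun c _ => hF'S _)
  · refine t.finite_toSet.biUnion fun x hx => (hF'fin _).union ((hCfin x (htW x hx)).biUnion fun c _ => hF'fin _)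
  · rw [himm_iff]
    intro y hy
    obtain ⟨x, hx, hyx⟩ := Set.mem_iUnion₂.mp (ht hy)
    refine ⟨f x, hfS x hx, hyx, haf x (htW x hx), ?_⟩
    have h1 : fracSub (ores (X.basicOpen_le (f x))) _ (hfS x hx) = ⊤ := by
      rw [eq_top_iff, ← hCgen x (htW x hx), Subring.closure_le]
      rintro c (hc | ⟨a, rfl⟩)
      · exact ⟨n x c, b x c, hbS x hx c hc, hb x (htW x hx) c⟩
      · have h2 : q.appLE U (X.basicOpen (f x)) (hle x) a = ores (X.basicOpen_le (f x)) (q.appLE U W hW a) :=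
          (congr(($(Scheme.Hom.appLE_map q hW (homOfLE (X.basicOpen_le (f x))).op)).hom a)).symm
        rw [h2]
        exact map_mem_fracSub _ _ _ (Subring.subset_closure (Or.inl ⟨a, rfl⟩))
    intro c
    have h2 : c ∈ fracSub (ores (X.basicOpen_le (f x))) _ (hfS x hx) := by rw [h1]; trivial
    exact h2

end K386.HImmFin
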