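import Groth.Agent.Mor.K386.VeryAmpleH
import Groth.Agent.Mor.K386.HImmFin
import Groth.Agent.Ega2.AmpleTransfer

/-!
# `VA q φ` over an affine base implies very ampleness via `P^n`

`isRelVeryAmplePn_of_va`: `Y` affine, `q : X ⟶ Y` of finite type, `L` invertible, `VA q φ`: then `L` is isomorphic to the
pullback of `O(1)` along an immersion `X ⟶ P^n_Y` over `Y`.
-/

set_option autoImplicit false
universe u
open CategoryTheory CategoryTheory.Limits AlgebraicGeometry TopologicalSpace Opposite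
open Groth.Agent.Fdesc.LocGen Groth.Agent.Ega2.Nv
open K43.HomImm K43.VADef

namespace K386.VAPn

variable {X Y : Scheme.{u}}

theorem genLocus_homOf {L : X.Modules} (m : Γ(L, ⊤)) : CohB1.genLocus L (homOf m) = nv L m := by
  apply le_antisymm
  · rw [le_nv_iff L m le_top, ← sec_homOf]
    exact isGen_sec_genLocus _
  · rw [le_genLocus_iff, sec_homOf]
    exact isGen_nv L m

theorem isRelVeryAmplePn_of_va (q : X ⟶ Y) [IsAffine Y] [LocallyOfFiniteType q] [QuasiCompact q]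
    {L : X.Modules} (hL : PicF.IsInvertible L) {E : Y.Modules} (φ : E ⟶ (Scheme.Modules.pushforward q).obj L)
    (h : VA q φ) : RelAmple.IsRelVeryAmplePn q L := by
  classical
  have hcpt : CompactSpace X := QuasiCompact.compactSpace_of_compactSpace q
  have hloc : LocGen L ⊤ := Groth.Agent.Ega2.Ample.locGen_top_iff.mpr hL
  have htop := isAffineOpen_top Y
  choose e hxe he using fun x : X => h ⊤ htop x trivial
  have hc : ∀ t : Γ(E, ⊤), IsCompact (nz q φ t : Set X) := by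
    intro t
    have h1 := isCompact_inf_nv hloc (se q φ t : Γ(L, ⊤)) (W := ⊤) isCompact_univ le_top
    rwa [top_inf_eq] at h1
  have hfin : ∀ x, ∃ S₀ ⊆ {a : Γ(X, nz q φ (e x)) | ∃ t : Γ(E, ⊤), res L (nz_le q φ (e x)) (se q φ t) =
      a • res L (nz_le q φ (e x)) (se q φ (e x))}, S₀.Finite ∧
      HImm (nz q φ (e x)) (Subring.closure (Set.range (q.appLE ⊤ (nz q φ (e x)) (nz_le q φ (e x))) ∪ S₀)) :=
    fun x => HImmFin.exists_finite q htop (nz_le q φ (e x)) (hc _) _ (he x)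
  choose S₀ hS₀ hS₀fin hS₀imm using hfin
  have hS₁ : ∀ x, ∀ a : Γ(X, nz q φ (e x)), a ∈ S₀ x → ∃ t : Γ(E, ⊤), res L (nz_le q φ (e x)) (se q φ t) =
      a • res L (nz_le q φ (e x)) (se q φ (e x)) := fun x a ha => hS₀ x ha
  choose! t ht using hS₁
  obtain ⟨F, hF⟩ := isCompact_univ.elim_finite_subcover (fun x : X => (nz q φ (e x) : Set X))
    (fun x => (nz q φ (e x)).2) (fun x _ => Set.mem_iUnion.mpr ⟨x, hxe x⟩)
  let T : Set Γ(E, ⊤) := {0} ∪ ⋃ x ∈ F, ({e x} ∪ t x '' S₀ x)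
  have hTfin : T.Finite := (Set.finite_singleton _).union (F.finite_toSet.biUnion fun x _ =>
    (Set.finite_singleton _).union ((hS₀fin x).image _))
  have heT : ∀ x ∈ F, e x ∈ T := fun x hx => Or.inr (Set.mem_iUnion₂.mpr ⟨x, hx, Or.inl rfl⟩)
  have htT : ∀ x ∈ F, ∀ a ∈ S₀ x, t x a ∈ T := fun x hx a ha =>
    Or.inr (Set.mem_iUnion₂.mpr ⟨x, hx, Or.inr ⟨a, ha, rfl⟩⟩)
  have : Finite T := hTfin
  obtain ⟨N, ⟨ε⟩⟩ := Finite.exists_equiv_fin T
  obtain ⟨n, rfl⟩ : ∃ n, N = n + 1 := by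
    rcases N with _ | n
    · exact (IsEmpty.false (ε ⟨0, Or.inl rfl⟩)).elim
    · exact ⟨n, rfl⟩
  have hgl : ∀ k, CohB1.genLocus L (homOf (se q φ (ε.symm k).1 : Γ(L, ⊤))) = nz q φ (ε.symm k).1 :=
    fun k => genLocus_homOf _
  refine VeryAmpleH.isRelVeryAmplePn_of_himm q L (fun k => homOf (se q φ (ε.symm k).1 : Γ(L, ⊤)))
    {k | ∃ x ∈ F, (ε.symm k).1 = e x} (fun _ => ⊤) (fun _ => htop) (fun _ => le_top) ?_ ?_
  · rw [eq_top_iff]
    intro y _
    obtain ⟨x, hx, hyx⟩ := Set.mem_iUnion₂.mp (hF (Set.mem_univ y))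
    refine Opens.mem_iSup.mpr ⟨⟨ε ⟨e x, heT x hx⟩, x, hx, by simp⟩, ?_⟩
    rw [hgl]
    simpa using hyx
  · rintro ⟨k, x, hx, hkx⟩
    have hW : CohB1.genLocus L (homOf (se q φ (ε.symm k).1 : Γ(L, ⊤))) = nz q φ (e x) := by
      rw [hgl, hkx]
    refine himm_congr hW _ _ ?_ (hS₀imm x)
    intro b hb
    refine ores_mem_of_closure hW.le _ _ ?_ hb
    rintro b (⟨a, rfl⟩ | hb)
    · refine Subring.subset_closure (Or.inr ⟨a, ?_⟩)
      exact (VeryAmple.appLE_congr_open q hW.le _ _ a).symm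
    · refine Subring.subset_closure (Or.inl ⟨ε ⟨t x b, htT x hx b hb⟩, ?_⟩)
      have h1 := congrArg (res L hW.le) (ht x b hb)
      rw [res_smul, res_res, res_res] at h1
      have hs : ∀ (t : Γ(E, ⊤)) (V : X.Opens), sec (homOf (se q φ t : Γ(L, ⊤))) V =
          res L (le_top : V ≤ q ⁻¹ᵁ ⊤) (se q φ t) := fun t V => sec_homOf _ _
      refine (hs _ _).trans (Eq.trans ?_ (congrArg (ores hW.le b • ·) (hs _ _).symm))
      rw [Equiv.symm_apply_apply]
      exact h1.trans (congrArg (fun z : Γ(E, ⊤) => ores hW.le b • res L (show CohB1.genLocus L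
        (homOf (se q φ (ε.symm k).1 : Γ(L, ⊤))) ≤ q ⁻¹ᵁ ⊤ from le_top) (se q φ z)) hkx.symm)

end K386.VAPn
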