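import Groth.Agent.RelProj.K823.Criterion
import Groth.Agent.Ega2.AmpleTransfer
import Groth.Agent.EGA2.K36.GlueAff
import Groth.Agent.EGA2.K35.RelProjBasic
import Mathlib.AlgebraicGeometry.Morphisms.SchemeTheoreticallyDominant

/-!
# The morphism to the relative `Proj` of the algebra generated by `E` is a dense open immersion

`q : X ⟶ Y` quasi-compact, `L` invertible, `E` quasi-coherent, `VA q φ`; `𝒮` the graded algebra of
`K823.Criterion`, `p : P ⟶ Y` a relative `Proj` of `𝒮`: there is a dominant open immersion `i : X ⟶ P` over `Y`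
which is given by `chartMor` in the charts.
-/

set_option autoImplicit false
universe u

open CategoryTheory CategoryTheory.Limits AlgebraicGeometry TopologicalSpace Opposite
open HomogeneousLocalization

namespace K386.OpenHalf

open Groth.Agent.Fdesc.LocGen Groth.Agent.Ega2.Nv Groth.Agent.Ega2.ExtCoeff
open K823.SecRing K823.GrSub K823.GrLoc K823.SecFam K823.ToProj K823.ProjMor K43.VADef K823.ChartMor
open K823.ChartIso K823.ChartImm K43.HomImm K823.AffData K823.GrData K823.Criterion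

/-- A quasi-compact scheme-theoretically dominant immersion is an open immersion. -/
theorem isOpenImmersion_of_dominant {X Y : Scheme.{u}} (f : X ⟶ Y) [IsImmersion f] [QuasiCompact f]
    [IsSchemeTheoreticallyDominant f] : IsOpenImmersion f := by
  have h1 : IsIso f.imageι := (Scheme.isIso_subschemeι_iff_eq_bot f.ker).mpr f.ker_eq_bot
  rw [← f.toImage_imageι]
  infer_instance

theorem isSchemeTheoreticallyDominant_mor {X : Scheme.{u}} (W : X.Opens) (hW : IsCompact (W : Set X)) {R : Type u}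
    [CommRing R] (ρ : R →+* Γ(X, W)) (hρ : Function.Injective ρ) :
    IsSchemeTheoreticallyDominant (K43.HomImm.mor W ρ) := by
  have hc : CompactSpace W := isCompact_iff_compactSpace.mp hW
  have h1 : (K43.HomImm.mor W ρ).appTop =
      (Scheme.ΓSpecIso (CommRingCat.of R)).hom ≫ CommRingCat.ofHom ρ ≫ W.topIso.inv := by
    rw [K43.HomImm.mor, Scheme.Hom.comp_appTop, Scheme.Opens.toSpecΓ_appTop, ← Category.assoc,
      Scheme.ΓSpecIso_naturality, Category.assoc]
  have h2 : Function.Injective (K43.HomImm.mor W ρ).appTop := by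
    rw [h1]
    have b1 : Function.Bijective (Scheme.ΓSpecIso (CommRingCat.of R)).hom := ConcreteCategory.bijective_of_isIso _
    have b2 : Function.Bijective W.topIso.inv := ConcreteCategory.bijective_of_isIso _
    exact b2.1.comp (hρ.comp b1.1)
  refine ⟨Scheme.IdealSheafData.ext_of_isAffine ?_⟩
  rw [(K43.HomImm.mor W ρ).ker_apply ⟨⊤, isAffineOpen_top _⟩]
  have h3 : RingHom.ker ((K43.HomImm.mor W ρ).app ⊤).hom = ⊥ := (RingHom.injective_iff_ker_eq_bot _).mp h2
  simpa using h3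

section Chart

variable {X Y : Scheme.{u}} (q : X ⟶ Y) {L : X.Modules} {E : Y.Modules}
  (φ : E ⟶ (Scheme.Modules.pushforward q).obj L) {U : Y.Opens}
  {A σ : Type u} [CommRing A] [SetLike σ A] [AddSubgroupClass σ A] {𝒜 : ℕ → σ}
  [GradedRing 𝒜] (Φ : A ≃+* AA q φ U) (hΦ : ∀ (d : ℕ) (a : A), a ∈ 𝒜 d ↔ Φ a ∈ GG q φ U d)
  (hcov : ∀ x ∈ q ⁻¹ᵁ U, ∃ e : Γ(E, U), x ∈ nz q φ e)

theorem isCompact_nz [QuasiCompact q] (hL : PicF.IsInvertible L) (hU : IsAffineOpen U) (t : Γ(E, U)) :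
    IsCompact (nz q φ t : Set X) := by
  have hcU : IsCompact ((q ⁻¹ᵁ U : X.Opens) : Set X) := q.isCompact_preimage hU.isCompact
  have hloc : LocGen L ⊤ := Groth.Agent.Ega2.Ample.locGen_top_iff.mpr hL
  have h1 := isCompact_inf_nv (hloc.mono le_top) (se q φ t : Γ(L, q ⁻¹ᵁ U)) (W := q ⁻¹ᵁ U) hcU le_rfl
  rwa [inf_eq_right.mpr (nv_le _ _)] at h1

include hΦ in
theorem std_mor [QuasiCompact q] (hL : PicF.IsInvertible L) (hU : IsAffineOpen U) (e : Γ(E, U)) :
    IsSchemeTheoreticallyDominant (K43.HomImm.mor (nz q φ e) (θ q φ 𝒜 Φ e)) :=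
  isSchemeTheoreticallyDominant_mor _ (isCompact_nz q φ hL hU e) _ (θ_injective q φ Φ hΦ hL hU e)

theorem quasiCompact_mor {X : Scheme.{u}} (W : X.Opens) (hW : IsCompact (W : Set X)) {R : Type u}
    [CommRing R] (ρ : R →+* Γ(X, W)) : QuasiCompact (K43.HomImm.mor W ρ) := by
  have hc : CompactSpace W := isCompact_iff_compactSpace.mp hW
  infer_instance

theorem isOpenImmersion_mor [QuasiCompact q] (hL : PicF.IsInvertible L) (hU : IsAffineOpen U)
    (h : ∀ x ∈ q ⁻¹ᵁ U, At q φ U x) : IsOpenImmersion (mor q φ Φ hΦ hcov) := by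
  have h0 : IsImmersion (mor q φ Φ hΦ hcov) := isImmersion_mor q φ Φ hΦ hcov h
  refine IsZariskiLocalAtTarget.of_iSup_eq_top (P := @IsOpenImmersion)
    (fun e : Γ(E, U) => (Proj.awayι 𝒜 (hatA q φ Φ e) (hatA_mem q φ 𝒜 Φ hΦ e) one_pos).opensRange)
    ?_ fun e => ?_
  · simp only [Proj.opensRange_awayι]
    exact iSup_basicOpen q φ Φ hΦ
  · obtain ⟨i⟩ := arrow_iso (isPullback_mor q φ Φ hΦ hcov e)
    rw [MorphismProperty.arrow_mk_iso_iff @IsOpenImmersion i]
    have h2 : IsImmersion (K43.HomImm.mor (nz q φ e) (θ q φ 𝒜 Φ e)) :=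
      MorphismProperty.of_isPullback (P := @IsImmersion) (isPullback_mor q φ Φ hΦ hcov e).flip h0
    have h3 := std_mor q φ Φ hΦ hL hU e
    have h4 := quasiCompact_mor _ (isCompact_nz q φ hL hU e) (θ q φ 𝒜 Φ e)
    exact isOpenImmersion_of_dominant _

theorem isDominant_mor [QuasiCompact q] (hL : PicF.IsInvertible L) (hU : IsAffineOpen U) :
    IsDominant (mor q φ Φ hΦ hcov) := by
  refine IsZariskiLocalAtTarget.of_iSup_eq_top (P := @IsDominant)
    (fun e : Γ(E, U) => (Proj.awayι 𝒜 (hatA q φ Φ e) (hatA_mem q φ 𝒜 Φ hΦ e) one_pos).opensRange)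
    ?_ fun e => ?_
  · simp only [Proj.opensRange_awayι]
    exact iSup_basicOpen q φ Φ hΦ
  · obtain ⟨i⟩ := arrow_iso (isPullback_mor q φ Φ hΦ hcov e)
    rw [MorphismProperty.arrow_mk_iso_iff @IsDominant i]
    have h3 := std_mor q φ Φ hΦ hL hU e
    have h4 := quasiCompact_mor _ (isCompact_nz q φ hL hU e) (θ q φ 𝒜 Φ e)
    infer_instance

end Chart

section Glue

variable {X Y : Scheme.{u}} (q : X ⟶ Y) {L : X.Modules} {E : Y.Modules}
  (φ : E ⟶ (Scheme.Modules.pushforward q).obj L) [QuasiCompact q]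
  (hL : PicF.IsInvertible L) (hE : Coh.IsQCoh E)
  (hcov : ∀ (U : Y.Opens), IsAffineOpen U → ∀ x ∈ q ⁻¹ᵁ U, ∃ e : Γ(E, U), x ∈ nz q φ e)
  {P : Scheme.{u}} (p : P ⟶ Y)
  (chart : ∀ (U : Y.Opens) (hU : IsAffineOpen U),
    ((p ⁻¹ᵁ U : P.Opens) : Scheme.{u}) ≅ Proj ((𝒮 q φ hL hE).deg U hU))
  (hP : RelProj.IsRelProj (𝒮 q φ hL hE) p chart)

include hP in
/-- The morphism from `X` to a relative `Proj`. -/
theorem exists_toP : ∃ i : X ⟶ P, i ≫ p = q ∧ ∀ (U : Y.Opens) (hU : IsAffineOpen U),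
    (q ⁻¹ᵁ U).ι ≫ i = chartMor q φ hL hE hcov U hU ≫ RelProj.emb p chart U hU := by
  obtain ⟨i, hi⟩ := K36.GlueAff.exists_glue q
    (fun U hU => chartMor q φ hL hE hcov U hU ≫ RelProj.emb p chart U hU) (fun U hU r => by
      rw [← Category.assoc, chartMor_res, Category.assoc, RelProj.map_res_emb hP U hU r])
  refine ⟨i, ?_, hi⟩
  refine K36.GlueAff.hom_ext q fun U hU => ?_
  rw [← Category.assoc, hi U hU, Category.assoc, K35.RelProjBasic.emb_p hP, chartMor_over]

theorem isPullback_chartMor {i : X ⟶ P} (hip : i ≫ p = q) {U : Y.Opens} {hU : IsAffineOpen U}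
    (hi : (q ⁻¹ᵁ U).ι ≫ i = chartMor q φ hL hE hcov U hU ≫ RelProj.emb p chart U hU) :
    IsPullback (chartMor q φ hL hE hcov U hU) (q ⁻¹ᵁ U).ι (RelProj.emb p chart U hU) i := by
  refine IsOpenImmersion.isPullback _ _ _ _ hi ?_
  rw [K35.RelProjBasic.opensRange_emb, Scheme.Opens.opensRange_ι]
  subst hip
  rfl

/-- A property local at the target holds for `i` if it holds for all chart morphisms. -/
theorem of_chartMor (Q : MorphismProperty Scheme.{u}) [IsZariskiLocalAtTarget Q] {i : X ⟶ P} (hip : i ≫ p = q)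
    (hi : ∀ (U : Y.Opens) (hU : IsAffineOpen U),
      (q ⁻¹ᵁ U).ι ≫ i = chartMor q φ hL hE hcov U hU ≫ RelProj.emb p chart U hU)
    (h : ∀ (U : Y.Opens) (hU : IsAffineOpen U), Q (chartMor q φ hL hE hcov U hU)) : Q i := by
  have hemb : ∀ U : Y.affineOpens, IsOpenImmersion (RelProj.emb p chart U.1 U.2) := fun U =>
    RelProj.isOpenImmersion_emb p chart U.1 U.2
  refine IsZariskiLocalAtTarget.of_iSup_eq_top (P := Q)
    (fun U : Y.affineOpens => (RelProj.emb p chart U.1 U.2).opensRange) ?_ fun U => ?_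
  · have h1 : ∀ U : Y.affineOpens, (RelProj.emb p chart U.1 U.2).opensRange = p ⁻¹ᵁ U.1 := fun U =>
      K35.RelProjBasic.opensRange_emb U.1 U.2
    refine (iSup_congr h1).trans ?_
    rw [← Scheme.Hom.preimage_iSup, iSup_affineOpens_eq_top, Scheme.Hom.preimage_top]
  · obtain ⟨k⟩ := arrow_iso (isPullback_chartMor q φ hL hE hcov p chart hip (hi U.1 U.2))
    rw [MorphismProperty.arrow_mk_iso_iff Q k]
    exact h U.1 U.2

include hP in
/-- The dense open immersion into a relative `Proj`. -/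
theorem exists_isOpenImmersion (hVA : VA q φ) : ∃ i : X ⟶ P, IsOpenImmersion i ∧ IsDominant i ∧ i ≫ p = q ∧
    ∀ (U : Y.Opens) (hU : IsAffineOpen U),
      (q ⁻¹ᵁ U).ι ≫ i = chartMor q φ hL hE hcov U hU ≫ RelProj.emb p chart U hU := by
  obtain ⟨i, hip, hi⟩ := exists_toP q φ hL hE hcov p chart hP
  refine ⟨i, ?_, ?_, hip, hi⟩
  · exact of_chartMor q φ hL hE hcov p chart @IsOpenImmersion hip hi fun U hU =>
      isOpenImmersion_mor q φ _ _ _ hL hU (hVA U hU)
  · exact of_chartMor q φ hL hE hcov p chart @IsDominant hip hi fun U hU =>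
      isDominant_mor q φ _ _ _ hL hU

end Glue

theorem cov_of_va {X Y : Scheme.{u}} {q : X ⟶ Y} {L : X.Modules} {E : Y.Modules}
    {φ : E ⟶ (Scheme.Modules.pushforward q).obj L} (hVA : VA q φ) :
    ∀ (U : Y.Opens), IsAffineOpen U → ∀ x ∈ q ⁻¹ᵁ U, ∃ e : Γ(E, U), x ∈ nz q φ e := fun U hU x hx => by
  obtain ⟨e, he, -⟩ := hVA U hU x hx
  exact ⟨e, he⟩

/-- `VA` with a module of finite type: a dense open immersion into a projective `Y`-scheme. -/
theorem exists_projective {X Y : Scheme.{u}} (q : X ⟶ Y) {L : X.Modules} {E : Y.Modules}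
    (φ : E ⟶ (Scheme.Modules.pushforward q).obj L) [QuasiCompact q]
    (hL : PicF.IsInvertible L) (hE : Coh.IsQCoh E)
    (hft : ∀ U : Y.Opens, IsAffineOpen U → Module.Finite Γ(Y, U) Γ(E, U)) (hVA : VA q φ) :
    ∃ (P : Scheme.{u}) (p : P ⟶ Y) (i : X ⟶ P), RelProj.IsProjective p ∧ IsOpenImmersion i ∧ IsDominant i ∧
      i ≫ p = q := by
  let 𝒮' := 𝒮 q φ hL hE
  obtain ⟨i, h1, h2, h3, -⟩ := exists_isOpenImmersion q φ hL hE (cov_of_va hVA)
    (K35.RelProjExists.relProjπ 𝒮') (K35.RelProjExists.chart 𝒮') (K35.RelProjExists.isRelProj 𝒮') hVA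
  exact ⟨_, _, i, ⟨𝒮', _, _, K35.RelProjExists.chart 𝒮', Iso.refl _, isGenDegOne q φ hL hE,
    isFTDeg q φ hL hE hft, K35.RelProjExists.isRelProj 𝒮', Category.id_comp _⟩, h1, h2, h3⟩

end K386.OpenHalf
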