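import Groth.Agent.Mor.K386.AmpleAt
import Groth.Agent.Mor.K386.HImmFin
import Groth.Agent.EGA2.K34.FinVA
import Groth.Agent.PerfC.FTExt
import Groth.Agent.Ega2.RelAmp
import Groth.Agent.EGA2.K34.RelAmpInv
import Groth.Agent.PerfB.TensInv
import Groth.Agent.Desc.AmpleDesc

/-!
# `VA` with a module of finite type on the base

* `exists_finite_at`: over an affine open of the base finitely many sections are enough (morphism of finite type);
* `exists_ft_of_at`: base quasi-compact and quasi-separated, morphism of finite type, the condition `At` over the members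
  of an affine cover: there is a quasi-coherent submodule of finite type `E` of `E₀` with `VA`;
* `exists_va_of_isRelAmple`: `L` relatively ample: for all large `n` there is `E ⟶ f_* L^n` with `E` of finite type and
  `VA`.
-/

set_option autoImplicit false
universe u
open CategoryTheory CategoryTheory.Limits AlgebraicGeometry TopologicalSpace Opposite
open Groth.Agent.Fdesc.LocGen Groth.Agent.Ega2.Nv Groth.Agent.Ega2 Groth.Agent.Ega2.Ample
open K43.HomImm K43.VADef K34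

namespace K386.QPVA

variable {X S : Scheme.{u}} (f : X ⟶ S) [LocallyOfFiniteType f] [QuasiCompact f] {L : X.Modules}
  (hL : PicF.IsInvertible L) {E : S.Modules} (φ : E ⟶ (Scheme.Modules.pushforward f).obj L)

include hL in
theorem exists_finite_at {U : S.Opens} (hU : IsAffineOpen U) (h : ∀ x ∈ f ⁻¹ᵁ U, At f φ U x) :
    ∃ T : Set Γ(E, U), T.Finite ∧ ∀ x ∈ f ⁻¹ᵁ U, ∃ e ∈ T, x ∈ nz f φ e ∧
      HImm (nz f φ e) (Subring.closure (Set.range (f.appLE U (nz f φ e) (nz_le f φ e)) ∪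
        {a | ∃ t ∈ T, res L (nz_le f φ e) (se f φ t) = a • res L (nz_le f φ e) (se f φ e)})) := by
  classical
  have hcU : IsCompact ((f ⁻¹ᵁ U : X.Opens) : Set X) := (inferInstance : QuasiCompact f).isCompact_preimage (U : Set S) U.2 hU.isCompact
  have hloc : LocGen L ⊤ := locGen_top_iff.mpr hL
  choose e hxe he using fun (x : (f ⁻¹ᵁ U : X.Opens)) => h x.1 x.2
  have hc : ∀ t : Γ(E, U), IsCompact (nz f φ t : Set X) := by
    intro t
    have h1 := isCompact_inf_nv (hloc.mono le_top) (se f φ t : Γ(L, f ⁻¹ᵁ U)) (W := f ⁻¹ᵁ U) hcU le_rfl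
    rwa [inf_eq_right.mpr (nv_le _ _)] at h1
  have hfin : ∀ x, ∃ S₀ ⊆ {a : Γ(X, nz f φ (e x)) | ∃ t : Γ(E, U),
      res L (nz_le f φ (e x)) (se f φ t) = a • res L (nz_le f φ (e x)) (se f φ (e x))}, S₀.Finite ∧
      HImm (nz f φ (e x)) (Subring.closure (Set.range (f.appLE U (nz f φ (e x))
        (nz_le f φ (e x))) ∪ S₀)) :=
    fun x => HImmFin.exists_finite f hU (nz_le f φ (e x)) (hc _) _ (he x)
  choose S₀ hS₀ hS₀fin hS₀imm using hfin
  have hS₁ : ∀ x, ∀ a : Γ(X, nz f φ (e x)), a ∈ S₀ x → ∃ t : Γ(E, U),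
      res L (nz_le f φ (e x)) (se f φ t) = a • res L (nz_le f φ (e x)) (se f φ (e x)) :=
    fun x a ha => hS₀ x ha
  choose! t ht using hS₁
  obtain ⟨F, hF⟩ := hcU.elim_finite_subcover (fun x : (f ⁻¹ᵁ U : X.Opens) => (nz f φ (e x) : Set X))
    (fun x => (nz f φ (e x)).2) (fun x hx => Set.mem_iUnion.mpr ⟨⟨x, hx⟩, hxe ⟨x, hx⟩⟩)
  let T : Set Γ(E, U) := ⋃ x ∈ F, ({e x} ∪ t x '' S₀ x)
  have hTfin : T.Finite := F.finite_toSet.biUnion fun x _ =>
    (Set.finite_singleton _).union ((hS₀fin x).image _)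
  refine ⟨T, hTfin, fun y hy => ?_⟩
  obtain ⟨x, hx, hyx⟩ := Set.mem_iUnion₂.mp (hF hy)
  refine ⟨e x, Set.mem_iUnion₂.mpr ⟨x, hx, Or.inl rfl⟩, hyx, (hS₀imm x).mono ?_⟩
  refine Subring.closure_mono (Set.union_subset_union_right _ fun a ha => ?_)
  exact ⟨t x a, Set.mem_iUnion₂.mpr ⟨x, hx, Or.inr ⟨a, ha, rfl⟩⟩, ht x a ha⟩

include hL in
/-- Over a quasi-compact quasi-separated base a finite type submodule is enough. -/
theorem exists_ft_of_at [CompactSpace S] [QuasiSeparatedSpace S] (hE : Coh.IsQCoh E) {ι : Type*} [Finite ι]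
    (U : ι → S.Opens) (hU : ∀ i, IsAffineOpen (U i)) (hcov : ⨆ i, U i = ⊤)
    (h : ∀ i, ∀ x ∈ f ⁻¹ᵁ (U i), At f φ (U i) x) :
    ∃ (E' : S.Modules) (ψ : E' ⟶ E), Coh.IsQCoh E' ∧ CohB1.IsFT E' ∧ Mono ψ ∧ VA f (ψ ≫ φ) := by
  classical
  choose T hTfin hT using fun i => exists_finite_at f hL φ (hU i) (h i)
  have : Fintype ι := Fintype.ofFinite ι
  have hfin : ∀ i, Finite (T i) := fun i => hTfin i
  have : Fintype (Σ i, T i) := Fintype.ofFinite _
  obtain ⟨M, j, hM, hMft, hj, hs⟩ := Groth.Agent.PerfC.FTExt.exists_isFT_mono_sections E hE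
    (Finset.univ : Finset (Σ i, T i)) (fun k => U k.1) (fun k _ => (hU k.1).isCompact) (fun k => k.2.1)
  refine ⟨M, j, hM, hMft, hj, ?_⟩
  refine va_of_cover hM fun x => ?_
  obtain ⟨i, hi⟩ := Opens.mem_iSup.mp (show f x ∈ ⨆ i, U i by rw [hcov]; trivial)
  refine ⟨U i, hU i, hi, ?_⟩
  obtain ⟨e, heT, hxe, he⟩ := hT i x hi
  obtain ⟨e', he'⟩ := hs ⟨i, e, heT⟩ (Finset.mem_univ _)
  have he'' : j.app (U i) e' = e := he'
  have h1 : nz f (j ≫ φ) e' = nz f φ e := by rw [FinVA.nz_comp, he'']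
  refine ⟨e', by rw [h1]; exact hxe, himm_congr h1 _ _ (fun b hb => ?_) he⟩
  refine ores_mem_of_closure h1.le _ _ ?_ hb
  have hse : ∀ t', se f (j ≫ φ) t' = se f φ (j.app (U i) t') := fun _ => rfl
  rintro b (⟨a, rfl⟩ | ⟨t, htT, ht⟩)
  · have h3 : ores h1.le (f.appLE (U i) (nz f φ e) (nz_le f φ e) a) =
        ores (nz_le f (j ≫ φ) e') (f.app (U i) a) := by
      rw [VeryAmple.appLE_congr_open f h1.le _ (nz_le f (j ≫ φ) e')]
      rfl
    rw [h3]
    exact app_mem_ratioRing f (j ≫ φ) e' a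
  · obtain ⟨t', ht'⟩ := hs ⟨i, t, htT⟩ (Finset.mem_univ _)
    have ht'' : j.app (U i) t' = t := ht'
    refine ratio_mem_ratioRing f (j ≫ φ) e' t' ?_
    have h2 := congrArg (res L h1.le) ht
    rw [res_smul, res_res, res_res] at h2
    rw [hse, hse, ht'', he'']
    exact h2

/-- Large powers of a relatively ample module over a quasi-compact quasi-separated base. -/
theorem exists_va_of_isRelAmple [CompactSpace S] [QuasiSeparatedSpace S]
    (h : RelAmple.IsRelAmple f L) : ∃ n₀ : ℕ, ∀ n, n₀ ≤ n →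
      ∃ (E : S.Modules) (φ : E ⟶ (Scheme.Modules.pushforward f).obj (CohB1.tensorPow L n)),
        Coh.IsQCoh E ∧ CohB1.IsFT E ∧ Mono φ ∧ VA f φ := by
  classical
  have hL := RelAmpInv.isInvertible_of_isRelAmple f h
  have hqs : QuasiSeparated f := Groth.Agent.Desc.AmpleDesc.quasiSeparated_of_isRelAmple h
  obtain ⟨ι, _, W, hWa, -, -, hcov⟩ := exists_finite_affine_cover (X := S) (U := ⊤) isCompact_univ (fun _ => True)
    (fun _ _ _ _ => trivial) (fun x _ => ⟨⊤, trivial, trivial⟩)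
  have : Fintype ι := Fintype.ofFinite ι
  choose n₀ hn₀ using fun i => AmpleAt.exists_at f (hWa i) ((Groth.Agent.Ega2.RelAmp.isRelAmple_iff.mp h).2 ⟨W i, hWa i⟩)
  refine ⟨Finset.univ.sup n₀, fun n hn => ?_⟩
  have hinv := Groth.Agent.Fdesc.LocGen.isInvertible_tensorPow hL n
  obtain ⟨E, ψ, h1, h2, h3, h4⟩ := exists_ft_of_at f hinv
    (𝟙 ((Scheme.Modules.pushforward f).obj (CohB1.tensorPow L n)))
    (FinVA.isQCoh_push f (Groth.Agent.PerfB.TensInv.isQCoh_of_isInvertible hinv)) W hWa (top_le_iff.mp hcov)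
    (fun i => hn₀ i n ((Finset.le_sup (Finset.mem_univ i)).trans hn))
  exact ⟨E, ψ ≫ 𝟙 _, h1, h2, by rw [Category.comp_id]; exact h3, h4⟩

end K386.QPVA
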