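import Groth.Agent.Mor.K386.VeryAmple
import Groth.Agent.EGA2.K34.OpenMap
import Groth.Agent.EGA2.K43.VADef
import Groth.Agent.Ega3B.TensRestrict
import Groth.Agent.Ega2.AmpleTransfer

/-!
# Large powers of a relatively ample module satisfy the local very ampleness condition

`exists_at`: for `f : X ⟶ S` locally of finite type, `U` an affine open of `S`, `L` ample on `f⁻¹ U`: for all large `n`
and all `x ∈ f⁻¹ U`, `At f (𝟙 (f_* L^n)) U x`.
-/

set_option autoImplicit false
universe u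
open CategoryTheory CategoryTheory.Limits AlgebraicGeometry TopologicalSpace Opposite
open Groth.Agent.Fdesc.LocGen Groth.Agent.Ega2.Nv Groth.Agent.Ega2 Groth.Agent.Ega2.Ample
open K43.HomImm K43.VADef K34

namespace K386.AmpleAt

section Restrict

variable {X Y : Scheme.{u}} (j : Y ⟶ X) [IsOpenImmersion j] {M : X.Modules} {T : Y.Modules}
  (α : M.restrict j ≅ T)

/-- The map to the direct image attached to an isomorphism of the restriction. -/
noncomputable def lam : M ⟶ (Scheme.Modules.pushforward j).obj T :=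
  (Scheme.Modules.restrictAdjunction j).unit.app M ≫ (Scheme.Modules.pushforward j).map α.hom

theorem lam_bijective (W : X.Opens) (hW : W ≤ j.opensRange) : Function.Bijective ((lam j α).app W) := by
  have h1 : Function.Bijective (((Scheme.Modules.restrictAdjunction j).unit.app M).app W) := by
    rw [Scheme.Modules.restrictAdjunction_unit_app_app]
    have e : j ''ᵁ j ⁻¹ᵁ W = W := by
      rw [j.image_preimage_eq_opensRange_inf]
      exact inf_eq_right.mpr hW
    have : IsIso (homOfLE (j.image_preimage_le W)) := ⟨homOfLE e.ge, rfl, rfl⟩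
    exact ConcreteCategory.bijective_of_isIso (M.presheaf.map (homOfLE (j.image_preimage_le W)).op)
  have h2 : Function.Bijective (((Scheme.Modules.pushforward j).map α.hom).app W) := by
    have : IsIso (α.hom.app (j ⁻¹ᵁ W)) := inferInstance
    exact ConcreteCategory.bijective_of_isIso (α.hom.app (j ⁻¹ᵁ W))
  exact h2.comp h1

end Restrict

variable {X S : Scheme.{u}}

theorem exists_at (f : X ⟶ S) [LocallyOfFiniteType f] {L : X.Modules} {U : S.Opens} (hU : IsAffineOpen U)
    (h : AmpleOn L (f ⁻¹ᵁ U)) :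
    ∃ n₀ : ℕ, ∀ n, n₀ ≤ n → ∀ x ∈ f ⁻¹ᵁ U,
      At f (𝟙 ((Scheme.Modules.pushforward f).obj (CohB1.tensorPow L n))) U x := by
  let W : X.Opens := f ⁻¹ᵁ U
  let j : (W : Scheme.{u}) ⟶ X := W.ι
  have hjW : W ≤ j.opensRange := by rw [Scheme.Opens.opensRange_ι]
  have hj : ∀ V' : W.toScheme.Opens, V' ≤ (j ≫ f) ⁻¹ᵁ U := fun V' x _ => x.2
  have hL' : CohB1.IsAmple (L.restrict j) := (isAmple_restrict_ι_iff W).mpr h
  have hqs : QuasiSeparatedSpace W := Groth.Agent.Fdesc.LocGen.quasiSeparatedSpace_of_isAmple hL'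
  have hft : ∀ V' : W.toScheme.Opens, IsAffineOpen V' → ∃ C : Set Γ(W, V'), C.Finite ∧
      Subring.closure (C ∪ Set.range ((j ≫ f).appLE U V' (hj V'))) = ⊤ := by
    intro V' hV'
    have h1 : ((j ≫ f).appLE U V' (hj V')).hom.FiniteType :=
      LocallyOfFiniteType.finiteType_appLE (j ≫ f) hU hV' (hj V')
    algebraize [((j ≫ f).appLE U V' (hj V')).hom]
    obtain ⟨C, hC⟩ := (inferInstance : Algebra.FiniteType Γ(S, U) Γ(W, V')).out
    refine ⟨C, C.finite_toSet, ?_⟩
    have h2 := Algebra.adjoin_eq_ring_closure (R := Γ(S, U)) (C : Set Γ(W, V'))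
    rw [hC, Set.union_comm] at h2
    refine Eq.trans ?_ h2.symm
    rfl
  choose! C hCfin hCgen using hft
  obtain ⟨ι, hι, -, U', hU'cov, hU'aff, -, n₀, hn₀⟩ := VeryAmple.exists_ample_sections hL' (fun _ => ⊤)
    (fun _ => trivial) (fun _ V' => C V') (fun _ V' hV' _ => hCfin V' hV')
  refine ⟨n₀, fun n hn x hx => ?_⟩
  obtain ⟨α⟩ := Groth.Agent.Ega3B.TensRestrict.restrictPowIso j L n
  have hlam := lam_bijective j α
  obtain ⟨i, hi⟩ := Opens.mem_iSup.mp (show (⟨x, hx⟩ : W) ∈ ⨆ i, U' i by rw [hU'cov]; trivial)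
  obtain ⟨v, hv, hw⟩ := hn₀ n hn i
  have htopW : j ⁻¹ᵁ W ≤ ⊤ := le_top
  -- the section of `L ^ n` over `W` attached to a section over `W.toScheme`
  have hex : ∀ v : Coh.structureModule W.toScheme ⟶ CohB1.tensorPow (L.restrict j) n,
      ∃ e : Γ(CohB1.tensorPow L n, W), OpenMap.sec j (lam j α) W e =
        sec v (j ⁻¹ᵁ W) := fun v =>
    (OpenMap.sec_bijective j (lam j α) hlam hjW).2 _
  obtain ⟨e, he⟩ := hex v
  have hnz : j ⁻¹ᵁ (nv (CohB1.tensorPow L n) e) = U' i := by
    rw [OpenMap.preimage_nv j (lam j α) hlam hjW e, he, ← hv]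
    have h1 : sec v (j ⁻¹ᵁ W) = res _ htopW (sec v ⊤) := (res_sec v htopW).symm
    rw [h1, nv_res, genLocus_eq_nv]
    exact inf_eq_right.mpr (fun y _ => y.2)
  have hnzW : nz f (𝟙 ((Scheme.Modules.pushforward f).obj (CohB1.tensorPow L n))) e =
      nv (CohB1.tensorPow L n) e := rfl
  have hnzaff : IsAffineOpen (nv (CohB1.tensorPow L n) e) := by
    have h1 := (hU'aff i).image_of_isOpenImmersion j
    rw [← hnz, j.image_preimage_eq_opensRange_inf] at h1
    rwa [inf_eq_right.mpr ((nv_le _ _).trans hjW)] at h1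
  refine ⟨e, ?_, ?_⟩
  · have h1 : (⟨x, hx⟩ : W) ∈ j ⁻¹ᵁ (nv (CohB1.tensorPow L n) e) := by rw [hnz]; exact hi
    exact h1
  · refine (HImm.of_affine hnzaff).mono ?_
    let V : X.Opens := nv (CohB1.tensorPow L n) e
    have hVW : V ≤ W := nv_le _ _
    have hVj : V ≤ j.opensRange := hVW.trans hjW
    let ψ : Γ(X, V) →+* Γ(W, j ⁻¹ᵁ V) := (j.app V).hom
    have hψ : Function.Bijective ψ := app_bijective j hVj
    let G : Set Γ(X, V) := gens f (𝟙 ((Scheme.Modules.pushforward f).obj (CohB1.tensorPow L n))) e V (nv_le _ _)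
    have key : Subring.closure (ψ '' G) = ⊤ := by
      refine VeryAmpleCrit.closure_eq_top_of_le (U := U' i) (W := j ⁻¹ᵁ V) hnz _ (hCgen (U' i) (hU'aff i)) _ ?_
      rintro c (hc | ⟨b, rfl⟩)
      · obtain ⟨w, hwc⟩ := hw c hc
        obtain ⟨t, ht⟩ := hex w
        obtain ⟨a, ha⟩ := hψ.2 (ores hnz.le c)
        rw [← ha]
        refine Subring.subset_closure ⟨a, Or.inr ⟨t, ?_⟩, rfl⟩
        apply (OpenMap.sec_bijective j (lam j α) hlam hVj).1
        change OpenMap.sec j (lam j α) V (res _ hVW t) = OpenMap.sec j (lam j α) V (a • res _ hVW e)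
        rw [← OpenMap.res_sec j (lam j α) hVW, OpenMap.sec_smul, ← OpenMap.res_sec j (lam j α) hVW, ht, he]
        have h1 := congrArg (res _ hnz.le) hwc
        rw [res_smul, res_sec, res_sec] at h1
        rw [res_sec, res_sec]
        refine h1.trans ?_
        rw [← ha]
      · refine Subring.subset_closure ⟨ores hVW (f.app U b), Or.inl ⟨b, rfl⟩, ?_⟩
        rw [VeryAmple.appLE_congr_open (j ≫ f) hnz.le _ (hj _)]
        have h1 : ores hVW (f.app U b) = f.appLE U V hVW b := rfl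
        rw [h1]
        have h2 := Scheme.Hom.appLE_comp_appLE j f U V (j ⁻¹ᵁ V) hVW le_rfl
        rw [← h2, Scheme.Hom.appLE_eq_app]
        rfl
    have key2 : (ratioRing f (𝟙 ((Scheme.Modules.pushforward f).obj (CohB1.tensorPow L n))) e).map ψ = ⊤ := by
      rw [← key]
      exact RingHom.map_closure ψ G
    intro a _
    have h1 : ψ a ∈ (ratioRing f (𝟙 ((Scheme.Modules.pushforward f).obj (CohB1.tensorPow L n))) e).map ψ := by
      rw [key2]; trivial
    obtain ⟨a', ha', haa⟩ := h1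
    rwa [← hψ.1 haa]

end K386.AmpleAt
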