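import Mathlib.AlgebraicGeometry.Morphisms.Etale
import Mathlib.AlgebraicGeometry.Morphisms.RingHomProperties

/-! `P (U.ι ≫ f)` in terms of the ring map `Γ(S, V) ⟶ Γ(X, U)`, for `U`, `V` affine. -/

set_option autoImplicit false
universe u
open CategoryTheory AlgebraicGeometry TopologicalSpace

namespace K386.Chart

/-- for a property of ring maps: `f` has it on the affine open `U ≤ f ⁻¹ᵁ V` iff
`Γ(S, V) ⟶ Γ(X, U)` has it. -/
theorem ι_comp_iff (P : MorphismProperty Scheme.{u})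
    {Q : ∀ {R S : Type u} [CommRing R] [CommRing S], (R →+* S) → Prop}
    [HasRingHomProperty P Q]
    [P.HasOfPostcompProperty @IsOpenImmersion]
    (hP : ∀ {X Y Z : Scheme.{u}} (f : X ⟶ Y) (i : Y ⟶ Z) [IsOpenImmersion i], P f → P (f ≫ i))
    {X S : Scheme.{u}} (f : X ⟶ S) {V : S.Opens} (hV : IsAffineOpen V)
    {U : X.Opens} (hU : IsAffineOpen U) (e : U ≤ f ⁻¹ᵁ V) :
    P (U.ι ≫ f) ↔ Q (f.appLE V U e).hom := by
  have h3 : U.ι ≫ f = hU.isoSpec.hom ≫ hU.fromSpec ≫ f := by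
    rw [← Category.assoc, IsAffineOpen.isoSpec_hom_fromSpec]
  rw [h3, MorphismProperty.cancel_left_of_respectsIso P,
    ← IsAffineOpen.SpecMap_appLE_fromSpec f hV hU e, ← HasRingHomProperty.Spec_iff (P := P)]
  constructor
  · intro h
    exact MorphismProperty.of_postcomp (W := P) (W' := @IsOpenImmersion) _ hV.fromSpec
      inferInstance h
  · intro h
    exact hP _ hV.fromSpec h

/-- inside an open `W` on which `f` has `P` one can shrink. -/
theorem ι_comp_of_le (P : MorphismProperty Scheme.{u}) [IsZariskiLocalAtSource P]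
    {X S : Scheme.{u}} (f : X ⟶ S) {W U : X.Opens} (h : U ≤ W) (hW : P (W.ι ≫ f)) :
    P (U.ι ≫ f) := by
  have h1 : U.ι ≫ f = X.homOfLE h ≫ W.ι ≫ f := by rw [Scheme.homOfLE_ι_assoc]
  rw [h1]
  exact IsZariskiLocalAtSource.comp hW _

/-- around a point there is an affine open inside two given opens. -/
theorem exists_affine {X : Scheme.{u}} (x : X) (W : X.Opens) (hx : x ∈ W) :
    ∃ U : X.Opens, IsAffineOpen U ∧ x ∈ U ∧ U ≤ W := by
  obtain ⟨U, hU, hxU, hUW⟩ := exists_isAffineOpen_mem_and_subset (U := W) (x := x) hx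
  exact ⟨U, hU, hxU, hUW⟩

theorem mem_basicOpen_iff {X : Scheme.{u}} {U : X.Opens} (hU : IsAffineOpen U) (x : X) (hx : x ∈ U)
    (g : Γ(X, U)) : x ∈ X.basicOpen g ↔ g ∉ (hU.primeIdealOf ⟨x, hx⟩).asIdeal := by
  have h1 : hU.fromSpec (hU.primeIdealOf ⟨x, hx⟩) = x := hU.fromSpec_primeIdealOf ⟨x, hx⟩
  have h2 := hU.fromSpec_preimage_basicOpen g
  have h3 : (hU.fromSpec (hU.primeIdealOf ⟨x, hx⟩)) ∈ X.basicOpen g ↔ x ∈ X.basicOpen g := by
    rw [h1]
  have h4 : (hU.fromSpec (hU.primeIdealOf ⟨x, hx⟩)) ∈ X.basicOpen g ↔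
      (show PrimeSpectrum Γ(X, U) from hU.primeIdealOf ⟨x, hx⟩) ∈
        (PrimeSpectrum.basicOpen g : TopologicalSpace.Opens (PrimeSpectrum Γ(X, U))) := by
    rw [← h2]
    rfl
  rw [← h3, h4]
  exact PrimeSpectrum.mem_basicOpen _ _

/-- the ring map on a basic open is, up to isomorphism, the localization. -/
theorem appLE_basicOpen {X S : Scheme.{u}} (f : X ⟶ S) {V : S.Opens}
    {U : X.Opens} (hU : IsAffineOpen U) (e : U ≤ f ⁻¹ᵁ V) (g : Γ(X, U)) :
    ∃ θ : Localization.Away g ≃+* Γ(X, X.basicOpen g),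
      (f.appLE V (X.basicOpen g) ((X.basicOpen_le g).trans e)).hom =
        θ.toRingHom.comp ((algebraMap Γ(X, U) (Localization.Away g)).comp (f.appLE V U e).hom) := by
  have := hU.isLocalization_basicOpen g
  let θ : Localization.Away g ≃ₐ[Γ(X, U)] Γ(X, X.basicOpen g) :=
    IsLocalization.algEquiv (Submonoid.powers g) _ _
  refine ⟨θ.toRingEquiv, ?_⟩
  rw [← RingHom.comp_assoc]
  have h2 : θ.toRingEquiv.toRingHom.comp (algebraMap Γ(X, U) (Localization.Away g)) =
    algebraMap Γ(X, U) Γ(X, X.basicOpen g) := by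
    ext a
    exact θ.commutes a
  rw [h2]
  have h3 : f.appLE V (X.basicOpen g) ((X.basicOpen_le g).trans e) =
      f.appLE V U e ≫ X.presheaf.map (homOfLE (X.basicOpen_le g)).op := by
    rw [Scheme.Hom.appLE_map]
  rw [h3]
  rfl

set_option backward.isDefEq.respectTransparency.types false in
theorem smooth_ι_comp_iff {X S : Scheme.{u}} (f : X ⟶ S) {V : S.Opens} (hV : IsAffineOpen V)
    {U : X.Opens} (hU : IsAffineOpen U) (e : U ≤ f ⁻¹ᵁ V) :
    Smooth (U.ι ≫ f) ↔ (f.appLE V U e).hom.Smooth :=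
  ι_comp_iff @Smooth (fun f i _ _ ↦ inferInstance) f hV hU e

set_option backward.isDefEq.respectTransparency.types false in
theorem smooth_ι_comp_of_le {X S : Scheme.{u}} (f : X ⟶ S) {W U : X.Opens} (h : U ≤ W)
    (hW : Smooth (W.ι ≫ f)) : Smooth (U.ι ≫ f) :=
  ι_comp_of_le @Smooth f h hW

set_option backward.isDefEq.respectTransparency.types false in
theorem etale_ι_comp_iff {X S : Scheme.{u}} (f : X ⟶ S) {V : S.Opens} (hV : IsAffineOpen V)
    {U : X.Opens} (hU : IsAffineOpen U) (e : U ≤ f ⁻¹ᵁ V) :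
    Etale (U.ι ≫ f) ↔ (f.appLE V U e).hom.Etale :=
  ι_comp_iff @Etale (fun f i _ _ ↦ inferInstance) f hV hU e

set_option backward.isDefEq.respectTransparency.types false in
theorem etale_ι_comp_of_le {X S : Scheme.{u}} (f : X ⟶ S) {W U : X.Opens} (h : U ≤ W)
    (hW : Etale (W.ι ≫ f)) : Etale (U.ι ≫ f) :=
  ι_comp_of_le @Etale f h hW

end K386.Chart
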