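import Groth.Agent.Ega4late.H512.ActMod
import Mathlib.RingTheory.IsTensorProduct

/-!
# Differential operators and base changes of modules along `B → (B ⊗[A] B) / I ^ (n + 1)`
-/

set_option autoImplicit false
universe u
open scoped TensorProduct

namespace K386.DiffAff

open Groth.Agent.Ega4late.H512

variable {A B : Type u} [CommRing A] [CommRing B] [Algebra A B]
variable {M N : Type u} [AddCommGroup M] [Module A M] [Module B M] [IsScalarTower A B M]
  [AddCommGroup N] [Module A N] [Module B N] [IsScalarTower A B N]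

/-- A differential operator `D : M → N` of order at most `n` extends to the base change of `M` along
`b ↦ 1 ⊗ b : B → (B ⊗[A] B) / I ^ (n + 1)`. -/
theorem exists_ext {C P : Type u} [CommRing C] [Algebra B C] [AddCommGroup P] [Module B P] [Module C P]
    [IsScalarTower B C P] (t : B ⊗[A] B →+* C) (ht : Function.Surjective t) (n : ℕ)
    (hk : RingHom.ker t = KaehlerDifferential.ideal A B ^ (n + 1))
    (hr : ∀ b, algebraMap B C b = t (1 ⊗ₜ b)) (j : M →ₗ[B] P) (hj : IsBaseChange C j)
    (D : M →ₗ[A] N) (hD : Diff16.IsDiffOpLE A B M N n D) :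
    ∃ ψ : P →+ N, (∀ m, ψ (j m) = D m) ∧ ∀ (b : B) (p : P), ψ (t (b ⊗ₜ 1) • p) = b • ψ p := by
  rw [ActMod.isDiffOpLE_iff] at hD
  let a : B ⊗[A] B →+ (M →+ N) :=
    { toFun := fun x => (ActMod.act D x).toAddMonoidHom
      map_zero' := by rw [map_zero]; rfl
      map_add' := fun x y => by rw [map_add]; rfl }
  have ha : ∀ x m, a x m = ActMod.act D x m := fun _ _ => rfl
  let g : C →+ (M →+ N) := AddMonoidHom.liftOfSurjective t.toAddMonoidHom ht ⟨a, fun x hx => by
    have h1 : x ∈ RingHom.ker t := hx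
    rw [hk] at h1
    rw [AddMonoidHom.mem_ker]
    ext m
    rw [ha, hD x h1]
    rfl⟩
  have hg : ∀ x m, g (t x) m = ActMod.act D x m := fun x m => by
    have h1 : g (t.toAddMonoidHom x) = a x := AddMonoidHom.liftOfRightInverse_comp_apply _ _ _ _ x
    exact congr($h1 m)
  let ψ₀ : C ⊗[B] M →+ N := TensorProduct.liftAddHom g (fun b c m => by
    obtain ⟨x, rfl⟩ := ht c
    rw [Algebra.smul_def, hr, ← map_mul, hg, hg, ActMod.act_tmul_mul, one_smul])
  have hψ₀ : ∀ x m, ψ₀ (t x ⊗ₜ m) = ActMod.act D x m := hg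
  refine ⟨ψ₀.comp hj.equiv.symm.toLinearMap.toAddMonoidHom, fun m => ?_, fun b p => ?_⟩
  · have h1 : hj.equiv.symm (j m) = (1 : C) ⊗ₜ[B] m := by
      rw [LinearEquiv.symm_apply_eq, IsBaseChange.equiv_tmul, one_smul]
    change ψ₀ (hj.equiv.symm (j m)) = _
    rw [h1, ← map_one t, hψ₀, ActMod.act_one]
  · change ψ₀ (hj.equiv.symm (t (b ⊗ₜ 1) • p)) = b • ψ₀ (hj.equiv.symm p)
    rw [map_smul]
    generalize hj.equiv.symm p = q
    induction q using TensorProduct.induction_on with
    | zero => rw [smul_zero, map_zero, smul_zero]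
    | add x y hx hy => rw [smul_add, map_add, hx, hy, map_add, smul_add]
    | tmul c m =>
      obtain ⟨x, rfl⟩ := ht c
      rw [TensorProduct.smul_tmul', smul_eq_mul, ← map_mul, hψ₀, hψ₀, ActMod.act_tmul_mul, one_smul]

end K386.DiffAff
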