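import Groth.Agent.Dcoh.PushFLF304
import Groth.Agent.Mor.K386.Chart
import Groth.Agent.Fdesc.StructMod
import Groth.Prelude.Def_Mor2
import Mathlib.AlgebraicGeometry.Morphisms.Finite
import Mathlib.AlgebraicGeometry.Morphisms.Flat
import Mathlib.RingTheory.Finiteness.ModuleFinitePresentation

/-! `f_* O_X` finite locally free (with `f` affine) iff `f` is finite, flat and locally of finite
presentation. -/

set_option autoImplicit false
universe u
open CategoryTheory CategoryTheory.Limits AlgebraicGeometry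

namespace K386.FinLocFree

variable {X S : Scheme.{u}} (f : X ⟶ S)

/-- Sections of the direct image of the structure sheaf. -/
theorem nonempty_equiv (V : S.Opens) :
    letI := (f.app V).hom.toAlgebra
    Nonempty (Γ((Scheme.Modules.pushforward f).obj (Coh.structureModule X), V) ≃ₗ[Γ(S, V)]
      Γ(X, f ⁻¹ᵁ V)) :=
  letI := (f.app V).hom.toAlgebra
  ⟨{ (AddEquiv.refl _ : Γ((Scheme.Modules.pushforward f).obj (Coh.structureModule X), V) ≃+
      Γ(X, f ⁻¹ᵁ V)) with
    map_smul' := fun _ _ => rfl }⟩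

theorem finLocFree_iff_app [IsAffineHom f] :
    FlatMod.IsFinLocFree ((Scheme.Modules.pushforward f).obj (Coh.structureModule X)) ↔
      ∀ V : S.Opens, IsAffineOpen V →
        letI := (f.app V).hom.toAlgebra
        Module.FinitePresentation Γ(S, V) Γ(X, f ⁻¹ᵁ V) ∧ Module.Flat Γ(S, V) Γ(X, f ⁻¹ᵁ V) := by
  have h1 : Coh.IsQCoh (Coh.structureModule X) := Groth.Agent.Fdesc.StructMod.isQCoh_structureModule X
  rw [Groth.Agent.Desc.FinLocFreeSections.isFinLocFree_iff_of_cover
    (Groth.Agent.Ega1.QcqsPush.isQCoh_pushforward f _ h1) (fun _ => True) (fun x => by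
    obtain ⟨V, hV, hx, -⟩ := exists_isAffineOpen_mem_and_subset (x := x) (U := ⊤) trivial
    exact ⟨V, trivial, hV, hx⟩)]
  refine forall_congr' fun V ↦ ⟨fun h hV ↦ ?_, fun h _ hV ↦ ?_⟩
  · let := (f.app V).hom.toAlgebra
    obtain ⟨e⟩ := nonempty_equiv f V
    obtain ⟨h1, h2⟩ := h trivial hV
    exact ⟨Module.FinitePresentation.of_equiv e, Module.Flat.of_linearEquiv e.symm⟩
  · let := (f.app V).hom.toAlgebra
    obtain ⟨e⟩ := nonempty_equiv f V
    obtain ⟨h1, h2⟩ := h hV
    exact ⟨Module.FinitePresentation.of_equiv e.symm, Module.Flat.of_linearEquiv e⟩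

set_option backward.isDefEq.respectTransparency.types false in
theorem of_app (P : MorphismProperty Scheme.{u})
    {Q : ∀ {R S : Type u} [CommRing R] [CommRing S], (R →+* S) → Prop}
    [HasRingHomProperty P Q] [P.HasOfPostcompProperty @IsOpenImmersion]
    (hP : ∀ {X Y Z : Scheme.{u}} (f : X ⟶ Y) (i : Y ⟶ Z) [IsOpenImmersion i], P f → P (f ≫ i))
    [IsAffineHom f] (h : ∀ V : S.Opens, IsAffineOpen V → Q (f.app V).hom) : P f := by
  refine IsZariskiLocalAtSource.of_iSup_eq_top (P := P) (fun V : S.affineOpens ↦ f ⁻¹ᵁ V.1) ?_ ?_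
  · rw [← Scheme.Hom.preimage_iSup, iSup_affineOpens_eq_top]
    rfl
  · intro V
    rw [K386.Chart.ι_comp_iff P hP f V.2 (V.2.preimage f) le_rfl, ← Scheme.Hom.app_eq_appLE]
    exact h V.1 V.2

set_option backward.isDefEq.respectTransparency.types false in
theorem main : (IsAffineHom f ∧
      FlatMod.IsFinLocFree ((Scheme.Modules.pushforward f).obj (Coh.structureModule X))) ↔
      Mor2.IsFinLocFree f := by
  constructor
  · rintro ⟨h1, h2⟩
    rw [finLocFree_iff_app] at h2
    refine ⟨⟨fun V hV ↦ ?_⟩, ?_, ?_⟩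
    · algebraize [(f.app V).hom]
      obtain ⟨h3, h4⟩ := h2 V hV
      change Module.Finite _ _
      infer_instance
    · refine of_app f @Flat (fun _ _ _ _ ↦ inferInstance) fun V hV ↦ ?_
      exact (h2 V hV).2
    · refine of_app f @LocallyOfFinitePresentation (fun _ _ _ _ ↦ inferInstance) fun V hV ↦ ?_
      algebraize [(f.app V).hom]
      obtain ⟨h3, h4⟩ := h2 V hV
      change Algebra.FinitePresentation _ _
      infer_instance
  · rintro ⟨h1, h2, h3⟩
    refine ⟨inferInstance, ?_⟩
    rw [finLocFree_iff_app]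
    intro V hV
    have h4 : (f.app V).hom.Finite := f.finite_app V hV
    have h5 : (f.app V).hom.Flat := by
      rw [Scheme.Hom.app_eq_appLE]
      exact f.flat_appLE hV (hV.preimage f) le_rfl
    have h6 : (f.app V).hom.FinitePresentation := by
      rw [Scheme.Hom.app_eq_appLE]
      exact HasRingHomProperty.appLE @LocallyOfFinitePresentation f h3 ⟨V, hV⟩
        ⟨f ⁻¹ᵁ V, hV.preimage f⟩ le_rfl
    algebraize [(f.app V).hom]
    have h4' : Module.Finite Γ(S, V) Γ(X, f ⁻¹ᵁ V) := h4
    have h6' : Algebra.FinitePresentation Γ(S, V) Γ(X, f ⁻¹ᵁ V) := h6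
    exact ⟨(Module.FinitePresentation.iff_finitePresentation_of_finite _ _).mpr h6', h5⟩

end K386.FinLocFree
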