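import Groth.Agent.Nrm16.K137.Imm
import Groth.Agent.EGA2.K43.HomImm

/-!
# Immersions into affine schemes in terms of functions

* `isImmersion_iff`: `h : Z ⟶ P` with `P` affine is an immersion iff locally on `Z` there is a function `f` of `P` with
  `Z_f` affine and every function of `Z_f` of the form `b / f ^ n` with `b` a function on `P`.
* `himm_iff`: the same for `K43.HomImm.HImm W B`.
-/

set_option autoImplicit false
universe u
open CategoryTheory CategoryTheory.Limits AlgebraicGeometry TopologicalSpace Opposite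

namespace K386.ImmAff

open Groth.Agent.Fdesc.LocGen K43.HomImm

theorem surjective_iff {Z P : Scheme.{u}} [IsAffine P] (h : Z ⟶ P) (f : Γ(P, ⊤)) :
    Function.Surjective (h.app (P.basicOpen f)) ↔ ∀ c : Γ(Z, Z.basicOpen (h.appTop f)), ∃ (n : ℕ) (b : Γ(P, ⊤)),
      c * ores (Z.basicOpen_le _) (h.appTop f) ^ n = ores (Z.basicOpen_le _) (h.appTop b) := by
  let _ : Algebra Γ(P, ⊤) Γ(P, P.basicOpen f) := (ores (P.basicOpen_le f)).toAlgebra
  have hloc : IsLocalization.Away f Γ(P, P.basicOpen f) := (isAffineOpen_top P).isLocalization_basicOpen f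
  have e : h ⁻¹ᵁ P.basicOpen f = Z.basicOpen (h.appTop f) := Scheme.preimage_basicOpen_top h f
  have key : ∀ b : Γ(P, ⊤), ores e.ge (h.app (P.basicOpen f) (ores (P.basicOpen_le f) b)) =
      ores (Z.basicOpen_le _) (h.appTop b) := by
    intro b
    have h1 := congr(($(h.naturality (homOfLE (P.basicOpen_le f)).op)).hom b)
    have h2 : h.app (P.basicOpen f) (ores (P.basicOpen_le f) b) =
        ores (h.preimage_mono (P.basicOpen_le f)) (h.app ⊤ b) := h1
    rw [h2, ores_ores]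
    rfl
  have hbij : Function.Bijective (ores e.ge) := by
    refine ⟨fun x y hxy => ?_, fun y => ⟨ores e.le y, ?_⟩⟩
    · have := congrArg (ores e.le) hxy
      rwa [ores_ores, ores_ores, ores_refl, ores_refl] at this
    · rw [ores_ores, ores_refl]
  constructor
  · intro hs c
    obtain ⟨y, hy⟩ := hs (ores e.le c)
    obtain ⟨⟨b, s, n, rfl⟩, hbs⟩ := IsLocalization.surj (Submonoid.powers f) y
    have h1 : y * ores (P.basicOpen_le f) (f ^ n) = ores (P.basicOpen_le f) b := hbs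
    refine ⟨n, b, ?_⟩
    rw [← key, ← key, ← h1, map_mul, map_mul, hy, map_pow, map_pow, map_pow, ores_ores, ores_refl]
  · intro H c
    obtain ⟨n, b, hb⟩ := H (ores e.ge c)
    have hu : IsUnit (ores (P.basicOpen_le f) f) := RingedSpace.isUnit_res_basicOpen _ f
    obtain ⟨v, hv⟩ := hu.exists_right_inv
    refine ⟨ores (P.basicOpen_le f) b * v ^ n, hbij.1 ?_⟩
    rw [map_mul, map_mul, key, ← hb, ← key, mul_assoc, map_pow, map_pow, ← mul_pow, ← map_mul, ← map_mul, hv,
      map_one, map_one, one_pow, mul_one]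

/-- Immersions into an affine scheme. -/
theorem isImmersion_iff {Z P : Scheme.{u}} [IsAffine P] (h : Z ⟶ P) :
    IsImmersion h ↔ ∀ z : Z, ∃ f : Γ(P, ⊤), z ∈ Z.basicOpen (h.appTop f) ∧ IsAffineOpen (Z.basicOpen (h.appTop f)) ∧
      ∀ c : Γ(Z, Z.basicOpen (h.appTop f)), ∃ (n : ℕ) (b : Γ(P, ⊤)),
      c * ores (Z.basicOpen_le _) (h.appTop f) ^ n = ores (Z.basicOpen_le _) (h.appTop b) := by
  constructor
  · intro hi z
    obtain ⟨c, hc, -⟩ := K137.Imm.exists_ch (i := h) z ⊤ trivial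
    obtain ⟨_, ⟨_, ⟨f, rfl⟩, rfl⟩, hzf, hfc⟩ :=
      (isBasis_basicOpen P).exists_subset_of_mem_open (a := h z) (u := (c.V : Set P)) hc c.V.2
    let c' : K137.Imm.Ch h := ⟨P.basicOpen f, (isAffineOpen_top P).basicOpen f,
      (show P.basicOpen f ≤ c.V from hfc).trans c.le⟩
    have e : h ⁻¹ᵁ P.basicOpen f = Z.basicOpen (h.appTop f) := Scheme.preimage_basicOpen_top h f
    refine ⟨f, ?_, ?_, ?_⟩
    · rw [← e]
      exact hzf
    · rw [← e]
      exact K137.Imm.isAffineOpen_preimage c'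
    · exact (surjective_iff h f).mp (K137.Imm.app_surjective c')
  · intro H
    choose f hzf haf hf using H
    refine Groth.Agent.Ega2.ImmCrit.isImmersion_of_affine_family h (fun z => P.basicOpen (f z))
      (fun z => (isAffineOpen_top P).basicOpen _) (fun z => ?_) ?_ fun z => (surjective_iff h _).mpr (hf z)
    · rw [Scheme.preimage_basicOpen_top]
      exact haf z
    · rw [eq_top_iff]
      intro z _
      refine Opens.mem_iSup.mpr ⟨z, ?_⟩
      rw [Scheme.preimage_basicOpen_top]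
      exact hzf z

theorem mor_appTop {X : Scheme.{u}} (W : X.Opens) {R : Type u} [CommRing R] (ρ : R →+* Γ(X, W)) (b : R) :
    (mor W ρ).appTop ((Scheme.ΓSpecIso (CommRingCat.of R)).inv b) = W.topIso.inv (ρ b) := by
  rw [mor, Scheme.Hom.comp_appTop, Scheme.Opens.toSpecΓ_appTop]
  have h1 := congr(($(Scheme.ΓSpecIso_inv_naturality (CommRingCat.ofHom ρ))).hom b)
  have h2 : (Spec.map (CommRingCat.ofHom ρ)).appTop ((Scheme.ΓSpecIso (CommRingCat.of R)).inv b) =
      (Scheme.ΓSpecIso Γ(X, W)).inv (ρ b) := h1.symm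
  change W.topIso.inv ((Scheme.ΓSpecIso Γ(X, W)).hom ((Spec.map (CommRingCat.ofHom ρ)).appTop
    ((Scheme.ΓSpecIso (CommRingCat.of R)).inv b))) = _
  rw [h2]
  congr 1
  exact congr(($((Scheme.ΓSpecIso Γ(X, W)).inv_hom_id)).hom (ρ b))

theorem ores_topIso_inv {X : Scheme.{u}} (W : X.Opens) (b : Γ(X, W)) (V : W.toScheme.Opens) (V' : X.Opens)
    (h : V' ≤ W.ι ''ᵁ V) (h' : V' ≤ W) :
    ores h (show Γ(X, W.ι ''ᵁ V) from ores (le_top : V ≤ ⊤) (W.topIso.inv b)) = ores h' b := by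
  have h1 : (show Γ(X, W.ι ''ᵁ V) from ores (le_top : V ≤ ⊤) (W.topIso.inv b)) =
      ores (X := X) (W.ι_image_le V) b := by
    change (X.presheaf.map _) (X.presheaf.map _ b) = X.presheaf.map _ b
    rw [← CommRingCat.comp_apply, ← X.presheaf.map_comp]
    rfl
  rw [h1, ores_ores]

/-- `W ⟶ Spec R` is an immersion iff locally there is `f : R` with `W_f` affine and all functions of `W_f`
of the form `b / f ^ n`. -/
theorem mor_iff {X : Scheme.{u}} (W : X.Opens) {R : Type u} [CommRing R] (ρ : R →+* Γ(X, W)) :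
    IsImmersion (mor W ρ) ↔ ∀ x ∈ W, ∃ f : R, x ∈ X.basicOpen (ρ f) ∧ IsAffineOpen (X.basicOpen (ρ f)) ∧
      ∀ c : Γ(X, X.basicOpen (ρ f)), ∃ (n : ℕ) (b : R),
      c * ores (X.basicOpen_le _) (ρ f) ^ n = ores (X.basicOpen_le _) (ρ b) := by
  have hι : ∀ b : R, W.ι ''ᵁ (W.toScheme.basicOpen (W.topIso.inv (ρ b))) = X.basicOpen (ρ b) := fun b =>
    Scheme.Opens.ι_image_basicOpen_topIso_inv W (ρ b)
  have hsurj : ∀ f' : Γ(Spec (CommRingCat.of R), ⊤), ∃ f : R, (Scheme.ΓSpecIso (CommRingCat.of R)).inv f = f' :=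
    fun f' => ⟨(Scheme.ΓSpecIso (CommRingCat.of R)).hom f',
      congr(($((Scheme.ΓSpecIso (CommRingCat.of R)).hom_inv_id)).hom f')⟩
  have key : ∀ f : R, (∀ c : Γ(W.toScheme, W.toScheme.basicOpen (W.topIso.inv (ρ f))), ∃ (n : ℕ) (b : R),
      c * ores (W.toScheme.basicOpen_le _) (W.topIso.inv (ρ f)) ^ n =
        ores (W.toScheme.basicOpen_le _) (W.topIso.inv (ρ b))) ↔
      ∀ c : Γ(X, X.basicOpen (ρ f)), ∃ (n : ℕ) (b : R),
      c * ores (X.basicOpen_le _) (ρ f) ^ n = ores (X.basicOpen_le _) (ρ b) := by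
    intro f
    have k1 : ∀ b, ores (hι f).ge (show Γ(X, W.ι ''ᵁ (W.toScheme.basicOpen (W.topIso.inv (ρ f)))) from
        ores (W.toScheme.basicOpen_le _) (W.topIso.inv (ρ b))) = ores (X.basicOpen_le _) (ρ b) := fun b =>
      ores_topIso_inv W (ρ b) _ _ _ _
    constructor
    · intro H c
      obtain ⟨n, b, h⟩ := H (show Γ(X, W.ι ''ᵁ (W.toScheme.basicOpen (W.topIso.inv (ρ f)))) from
        ores (hι f).le c)
      refine ⟨n, b, ?_⟩
      have h1 := congrArg (ores (X := X) (hι f).ge) h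
      refine Eq.trans ?_ (h1.trans (k1 b))
      refine Eq.trans ?_ (map_mul (ores (X := X) (hι f).ge) _ _).symm
      congr 1
      · exact ((ores_ores _ _ c).trans (ores_refl c)).symm
      · exact ((map_pow (ores (X := X) (hι f).ge) _ n).trans (congrArg (· ^ n) (k1 f))).symm
    · intro H c
      obtain ⟨n, b, h⟩ := H (ores (X := X) (hι f).ge c)
      refine ⟨n, b, ?_⟩
      have k2 : ∀ b, ores (X := X) (hι f).le (ores (X.basicOpen_le _) (ρ b)) =
          (show Γ(X, W.ι ''ᵁ (W.toScheme.basicOpen (W.topIso.inv (ρ f)))) from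
        ores (W.toScheme.basicOpen_le _) (W.topIso.inv (ρ b))) := fun b => by
        rw [← k1 b, ores_ores, ores_refl]
      have h1 := congrArg (ores (X := X) (hι f).le) h
      refine Eq.trans ?_ (h1.trans (k2 b))
      refine Eq.trans ?_ (map_mul (ores (X := X) (hι f).le) _ _).symm
      congr 1
      · exact ((ores_ores (X := X) (hι f).ge (hι f).le c).trans (ores_refl (X := X) c)).symm
      · exact ((map_pow (ores (X := X) (hι f).le) _ n).trans (congrArg (· ^ n) (k2 f))).symm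
  rw [isImmersion_iff]
  constructor
  · intro H x hx
    obtain ⟨f', h1, h2, h3⟩ := H ⟨x, hx⟩
    obtain ⟨f, rfl⟩ := hsurj f'
    rw [mor_appTop] at h1 h2 h3
    refine ⟨f, ?_, ?_, (key f).mp fun c => ?_⟩
    · exact Scheme.Opens.mem_basicOpen_toScheme.mp h1 |> fun h => by
        rw [← hι f]; exact ⟨⟨x, hx⟩, h1, rfl⟩
    · rw [← hι f]
      exact h2.image_of_isOpenImmersion W.ι
    · obtain ⟨n, b', hb⟩ := h3 c
      obtain ⟨b, rfl⟩ := hsurj b'
      rw [mor_appTop] at hb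
      exact ⟨n, b, hb⟩
  · intro H z
    obtain ⟨f, h1, h2, h3⟩ := H z.1 z.2
    refine ⟨(Scheme.ΓSpecIso (CommRingCat.of R)).inv f, ?_, ?_, ?_⟩
    · rw [mor_appTop]
      rw [← hι f] at h1
      obtain ⟨y, hy, hyz⟩ := h1
      have : y = z := Subtype.ext hyz
      rwa [← this]
    · rw [mor_appTop]
      rw [← hι f] at h2
      exact (W.ι.isAffineOpen_iff_of_isOpenImmersion).mp h2
    · rw [mor_appTop]
      intro c
      obtain ⟨n, b, hb⟩ := (key f).mpr h3 c
      exact ⟨n, (Scheme.ΓSpecIso (CommRingCat.of R)).inv b, by rw [mor_appTop]; exact hb⟩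

/-- `HImm W B` in terms of functions. -/
theorem himm_iff {X : Scheme.{u}} (W : X.Opens) (B : Subring Γ(X, W)) :
    HImm W B ↔ ∀ x ∈ W, ∃ f ∈ B, x ∈ X.basicOpen f ∧ IsAffineOpen (X.basicOpen f) ∧
      ∀ c : Γ(X, X.basicOpen f), ∃ (n : ℕ), ∃ b ∈ B,
      c * ores (X.basicOpen_le _) f ^ n = ores (X.basicOpen_le _) b := by
  refine (mor_iff W B.subtype).trans ?_
  simp only [Subtype.exists, Subring.subtype_apply]
  refine forall₂_congr fun x hx => ⟨?_, ?_⟩
  · rintro ⟨f, hf, h1, h2, h3⟩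
    refine ⟨f, hf, h1, h2, fun c => ?_⟩
    obtain ⟨n, b, hb, h⟩ := h3 c
    exact ⟨n, b, hb, h⟩
  · rintro ⟨f, hf, h1, h2, h3⟩
    refine ⟨f, hf, h1, h2, fun c => ?_⟩
    obtain ⟨n, b, hb, h⟩ := h3 c
    exact ⟨n, b, hb, h⟩

end K386.ImmAff
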