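import Mathlib.Topology.KrullDimension
import Mathlib.Topology.Sober
import Groth.Agent.Ega43.EquidimFibre

/-! Krull dimension and generalizing maps. -/

set_option autoImplicit false
universe u
open TopologicalSpace Topology Order

namespace K386.TopDim

attribute [local instance] specializationOrder

open Groth.Agent.Ega43.EquidimFibre in
/-- a surjective generalizing map between sober spaces does not raise the Krull dimension. -/
theorem topologicalKrullDim_le_of_generalizing {X T : Type*} [TopologicalSpace X]
    [TopologicalSpace T] [T0Space X] [T0Space T] [QuasiSober X] [QuasiSober T] (h : X → T)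
    (hg : GeneralizingMap h) (hs : Function.Surjective h) :
    topologicalKrullDim T ≤ topologicalKrullDim X := by
  rw [topologicalKrullDim_eq_krullDim, topologicalKrullDim_eq_krullDim]
  refine iSup_le fun p ↦ ?_
  obtain ⟨z, hz⟩ := hs p.head
  obtain ⟨q, -, hq⟩ := exists_ltSeries_lift h hg p.length z p hz.symm rfl
  exact le_iSup_of_le q (by rw [hq])

end K386.TopDim
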