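import Groth.Agent.S0658
import Mathlib.AlgebraicGeometry.Morphisms.FormallyUnramified
import Mathlib.RingTheory.Etale.Field

/-! Unramified over a field = étale over a field = disjoint union of spectra of finite separable
extensions. -/

set_option autoImplicit false
universe u
open CategoryTheory CategoryTheory.Limits AlgebraicGeometry

namespace K386.UnramField

/-- ring version -/
theorem etale_of_formallyUnramified_ring (k A : Type u) [Field k] [CommRing A] (φ : k →+* A)
    (h1 : φ.FormallyUnramified) (h2 : φ.FiniteType) : φ.Etale := by
  algebraize [φ]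
  have h1' : Algebra.FormallyUnramified k A := h1
  have h2' : Algebra.FiniteType k A := h2
  have h3 : Algebra.FormallyEtale k A :=
    Algebra.FormallyEtale.iff_formallyUnramified_of_field.mpr h1'
  have h4 : Algebra.FinitePresentation k A := Algebra.FinitePresentation.of_finiteType.mp h2'
  change Algebra.Etale k A
  exact ⟨h3, h4⟩

set_option backward.isDefEq.respectTransparency.types false in
/-- affine version -/
theorem etale_spec (k : Type u) [Field k] (A : CommRingCat.{u})
    (f : Spec A ⟶ Spec (CommRingCat.of k)) (h1 : FormallyUnramified f)
    (h2 : LocallyOfFiniteType f) : Etale f := by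
  obtain ⟨φ, rfl⟩ := Spec.map_surjective f
  rw [HasRingHomProperty.Spec_iff (P := @FormallyUnramified)] at h1
  rw [HasRingHomProperty.Spec_iff (P := @LocallyOfFiniteType)] at h2
  rw [HasRingHomProperty.Spec_iff (P := @Etale)]
  exact etale_of_formallyUnramified_ring k _ φ.hom h1 h2

set_option backward.isDefEq.respectTransparency.types false in
/-- over a field, unramified (with locally of finite type) implies étale. -/
theorem etale_of_formallyUnramified (k : Type u) [Field k] {X : Scheme.{u}}
    (f : X ⟶ Spec (CommRingCat.of k)) [FormallyUnramified f] [LocallyOfFiniteType f] :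
    Etale f := by
  rw [IsZariskiLocalAtSource.iff_of_iSup_eq_top (P := @Etale) (fun U : X.affineOpens ↦ U.1)
    (iSup_affineOpens_eq_top X)]
  intro U
  have h3 : U.1.ι ≫ f = U.2.isoSpec.hom ≫ U.2.fromSpec ≫ f := by
    rw [← Category.assoc, IsAffineOpen.isoSpec_hom_fromSpec]
  rw [h3, MorphismProperty.cancel_left_of_respectsIso @Etale]
  exact etale_spec k _ _ (IsZariskiLocalAtSource.comp ‹FormallyUnramified f› _)
    (IsZariskiLocalAtSource.comp ‹LocallyOfFiniteType f› _)

end K386.UnramField
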