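import Groth.Agent.Mor.K386.QPVA
import Groth.Agent.EGA2.K34.RelAmpQuot
import Groth.Agent.EGA2.K42.VAMisc
import Groth.Agent.EGA2.K42.VATens
import Groth.Agent.Ega2.Weight
import Groth.Agent.CurvesB.UnitCoh
import Groth.Agent.Ega1.TensorRestrict

/-!
# Section-level relative very ampleness of `L^n` and `L^n ⊗ L'` (base quasi-compact), `L` relatively ample

* `exists_va_pow`: `VA f (𝟙 (f_* L^n))` for all large `n`;
* `gn_of_genOn`: generation by sections over preimages of opens gives `Gn`;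
* `exists_va_pow_tensor`: `VA f (𝟙 (f_* (L^n ⊗ L')))` for all large `n`.
-/

set_option autoImplicit false
universe u
open CategoryTheory CategoryTheory.Limits AlgebraicGeometry TopologicalSpace Opposite
open Groth.Agent.Fdesc.LocGen Groth.Agent.Ega2.Nv Groth.Agent.Ega2 Groth.Agent.Ega2.Ample
open K43.HomImm K43.VADef K34

namespace K386.VATw

variable {X S : Scheme.{u}} (f : X ⟶ S)

/-- Large powers of a relatively ample module over a quasi-compact base. -/
theorem exists_va_pow [CompactSpace S] [LocallyOfFiniteType f] {L : X.Modules}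
    (h : RelAmple.IsRelAmple f L) : ∃ n₀ : ℕ, ∀ n, n₀ ≤ n →
      VA f (𝟙 ((Scheme.Modules.pushforward f).obj (CohB1.tensorPow L n))) := by
  classical
  have hL := RelAmpInv.isInvertible_of_isRelAmple f h
  have hqc : QuasiCompact f := (Groth.Agent.Ega2.RelAmp.isRelAmple_iff.1 h).1
  have hqs : QuasiSeparated f := RelAmpQuot.quasiSeparated_of_isRelAmple f h
  choose n₀ hn₀ using fun V : S.affineOpens => AmpleAt.exists_at f V.2 ((Groth.Agent.Ega2.RelAmp.isRelAmple_iff.mp h).2 V)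
  obtain ⟨t, ht⟩ := isCompact_univ.elim_finite_subcover (fun V : S.affineOpens => ((V : S.Opens) : Set S))
    (fun V => (V : S.Opens).isOpen) (fun y _ => by
      obtain ⟨_, ⟨V, hV, rfl⟩, hyV, -⟩ :=
        S.isBasis_affineOpens.exists_subset_of_mem_open (Set.mem_univ y) isOpen_univ
      exact Set.mem_iUnion.2 ⟨⟨V, hV⟩, hyV⟩)
  refine ⟨t.sup n₀, fun n hn => ?_⟩
  have hinv := Groth.Agent.Fdesc.LocGen.isInvertible_tensorPow hL n
  refine va_of_cover (FinVA.isQCoh_push f (Groth.Agent.PerfB.TensInv.isQCoh_of_isInvertible hinv)) fun x => ?_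
  obtain ⟨V, hV, hyV⟩ := Set.mem_iUnion₂.1 (ht (Set.mem_univ (f x)))
  exact ⟨V, V.2, hyV, hn₀ V n ((Finset.le_sup hV).trans hn) x hyV⟩

/-- If the sections over `U` generate the invertible module `M`, some section is a generator at any given point. -/
theorem exists_mem_nv_of_genOn {M : X.Modules} (hM : PicF.IsInvertible M) {U : X.Opens}
    (h : GenOn.GenOn M (Set.univ : Set Γ(M, U))) {x : X} (hx : x ∈ U) : ∃ e : Γ(M, U), x ∈ nv M e := by
  by_contra hcon
  push Not at hcon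
  obtain ⟨W₀, ε, hxW₀, hε⟩ := (isInvertible_iff M).mp hM x
  have hε' := hε.res (inf_le_right : U ⊓ W₀ ≤ W₀)
  have hq := Groth.Agent.PerfB.TensInv.isQCoh_of_isInvertible hM
  obtain ⟨W, hW, hxW, hspan⟩ := h.exists_mem_span hq (V := U ⊓ W₀) inf_le_left (res M inf_le_right ε) ⟨hx, hxW₀⟩
  have hε'' : IsGen (res M hW (res M inf_le_right ε)) := hε'.res hW
  set ε' := res M hW (res M (inf_le_right : U ⊓ W₀ ≤ W₀) ε) with hε'def
  have key : ∀ t ∈ Submodule.span Γ(X, W) (res M (hW.trans inf_le_left) '' (Set.univ : Set Γ(M, U))),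
      ∃ a : Γ(X, W), t = a • ε' ∧ x ∉ X.basicOpen a := by
    intro t ht
    induction ht using Submodule.span_induction with
    | mem t ht =>
      obtain ⟨s, -, rfl⟩ := ht
      obtain ⟨a, ha⟩ := hε''.exists_eq (res M (hW.trans inf_le_left) s)
      refine ⟨a, ha, fun hxa => hcon s ?_⟩
      have h1 := nv_inf_of_eq_smul s (hW.trans inf_le_left) hε'' a ha
      rw [← h1] at hxa
      exact hxa.2
    | zero => exact ⟨0, by rw [zero_smul], by rw [Scheme.basicOpen_zero]; exact id⟩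
    | add t t' _ _ h1 h2 =>
      obtain ⟨a, rfl, ha⟩ := h1
      obtain ⟨b, rfl, hb⟩ := h2
      refine ⟨a + b, by rw [add_smul], ?_⟩
      rw [Scheme.mem_basicOpen X _ x hxW] at ha hb ⊢
      rw [map_add]
      exact fun hu => ((IsLocalRing.isUnit_or_isUnit_of_isUnit_add hu).elim ha hb)
    | smul c t _ h1 =>
      obtain ⟨a, rfl, ha⟩ := h1
      refine ⟨c * a, by rw [mul_smul], ?_⟩
      rw [Scheme.mem_basicOpen X _ x hxW] at ha ⊢
      rw [map_mul]
      exact fun hu => ha (isUnit_of_mul_isUnit_right hu)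
  obtain ⟨a, ha, hxa⟩ := key _ hspan
  refine hxa ?_
  have h1 := hε''.ext (a := 1) (b := a) (by rw [one_smul]; exact ha)
  rw [← h1, Scheme.basicOpen_of_isUnit X isUnit_one]
  exact hxW

/-- Global generation over the preimages of the members of a cover of the base gives `Gn`. -/
theorem gn_of_genOn {M : X.Modules} (hM : PicF.IsInvertible M)
    (h : ∀ y : S, ∃ V : S.Opens, y ∈ V ∧ GenOn.GenOn M (Set.univ : Set Γ(M, f ⁻¹ᵁ V))) :
    K42.VATens.Gn f (𝟙 ((Scheme.Modules.pushforward f).obj M)) := by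
  intro x
  obtain ⟨V, hxV, hV⟩ := h (f x)
  obtain ⟨e, he⟩ := exists_mem_nv_of_genOn hM hV (x := x) hxV
  exact ⟨V, e, he⟩

/-- `L^n ⊗ L'` for large `n` over a quasi-compact base. -/
theorem exists_va_pow_tensor [CompactSpace S] [LocallyOfFiniteType f] {L L' : X.Modules}
    (hL' : PicF.IsInvertible L') (h : RelAmple.IsRelAmple f L) : ∃ n₀ : ℕ, ∀ n, n₀ ≤ n →
      VA f (𝟙 ((Scheme.Modules.pushforward f).obj (CohB1.tensorMod (CohB1.tensorPow L n) L'))) := by
  have hL := RelAmpInv.isInvertible_of_isRelAmple f h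
  have hqc : QuasiCompact f := (Groth.Agent.Ega2.RelAmp.isRelAmple_iff.1 h).1
  have hqs : QuasiSeparated f := RelAmpQuot.quasiSeparated_of_isRelAmple f h
  obtain ⟨a₀, ha₀⟩ := exists_va_pow f h
  have hcoh' : Coh.IsCoh L' := Groth.Agent.CohqB.LocalQC.isCoh_of_iso (Groth.Agent.Ega2.Tens.lunit L')
    (Groth.Agent.Ega2.GlobGenCrit.isCoh_tensor (Groth.Agent.CurvesB.UnitCoh.isCoh_structureModule X) hL')
  obtain ⟨m₀, hm₀⟩ := RelAmpQuot.exists_forall_genOn f h hcoh'
  refine ⟨a₀ + m₀, fun n hn => ?_⟩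
  obtain ⟨m, rfl⟩ := Nat.exists_eq_add_of_le hn
  have h1 := ha₀ a₀ le_rfl
  have hinv : PicF.IsInvertible (CohB1.tensorMod L' (CohB1.tensorPow L (m₀ + m))) :=
    isInvertible_tensorMod hL' (isInvertible_tensorPow hL _)
  have hinv₀ := isInvertible_tensorPow hL a₀
  have h2 := gn_of_genOn f hinv (fun y => by
    obtain ⟨V, hV, -, hG⟩ := hm₀ (m₀ + m) (Nat.le_add_right _ _) y
    exact ⟨V, hV, hG⟩)
  have h3 := h1.tens hinv₀ hinv (Groth.Agent.Ega1.TensorRestrict.isQCoh_tensorMod _ _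
    (FinVA.isQCoh_push f (Groth.Agent.PerfB.TensInv.isQCoh_of_isInvertible hinv₀))
    (FinVA.isQCoh_push f (Groth.Agent.PerfB.TensInv.isQCoh_of_isInvertible hinv))) h2
  have w1 : Weight.Wt L L' (a₀ + (0 + (m₀ + m))) (0 + (1 + 0)) (CohB1.tensorMod (CohB1.tensorPow L a₀)
      (CohB1.tensorMod L' (CohB1.tensorPow L (m₀ + m)))) :=
    (Weight.Wt.tensorPow_fst a₀).tensor (Weight.Wt.snd.tensor (Weight.Wt.tensorPow_fst (m₀ + m)))
  have w2 : Weight.Wt L L' (a₀ + m₀ + m + 0) (0 + 1)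
      (CohB1.tensorMod (CohB1.tensorPow L (a₀ + m₀ + m)) L') :=
    (Weight.Wt.tensorPow_fst (a₀ + m₀ + m)).tensor Weight.Wt.snd
  rw [show a₀ + (0 + (m₀ + m)) = a₀ + m₀ + m + 0 by ring, show 0 + (1 + 0) = 0 + 1 by rfl] at w1
  obtain ⟨i⟩ := Weight.Wt.nonempty_iso hL hL' w1 w2
  exact FinVA.va_id f _ (h3.comp_iso i.hom)

end K386.VATw
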