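import Groth.Agent.Mor.K386.VeryAmple
import Groth.Agent.EGA2.K43.VADef

/-!
# Very ampleness (via `P^n`) from sections whose ratios define immersions
-/

set_option autoImplicit false
universe u
open CategoryTheory CategoryTheory.Limits AlgebraicGeometry TopologicalSpace Opposite
open Groth.Agent.Fdesc.LocGen
open Groth.Agent.VarietyB Groth.Agent.VarietyB.ProjGlue
open Groth.Agent.Ega2 Groth.Agent.Ega2.VeryAmpleCrit
open K43.HomImm

namespace K386.VeryAmpleH

open K386.VeryAmple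

theorem app_appLE_eq {X P T : Scheme.{u}} {g : X ⟶ P} {r : P ⟶ T} {φ : X ⟶ T} (h : g ≫ r = φ) (D : T.Opens)
    (W : P.Opens) (hW : W ≤ r ⁻¹ᵁ D) {V : X.Opens} (hV : g ⁻¹ᵁ W ≤ V) (hVD : V ≤ φ ⁻¹ᵁ D) (a : Γ(T, D)) :
    g.app W (r.appLE D W hW a) = ores hV (φ.appLE D V hVD a) := by
  subst h
  have h1 := Scheme.Hom.appLE_comp_appLE g r D W (g ⁻¹ᵁ W) hW le_rfl
  rw [appLE_congr_open (g ≫ r) hV hVD (hV.trans hVD), ← h1, Scheme.Hom.app_eq_appLE]
  rfl

attribute [local instance] MvPolynomial.gradedAlgebra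

variable {X Y : Scheme.{u}}

/-- Criterion for very ampleness relative to an arbitrary base, with `HImm`. -/
theorem isRelVeryAmplePn_of_himm (q : X ⟶ Y) (M : X.Modules) {n : ℕ}
    (s : Fin (n + 1) → (Coh.structureModule X ⟶ M)) (K : Set (Fin (n + 1))) (B : K → Y.Opens)
    (hB : ∀ j, IsAffineOpen (B j)) (hBle : ∀ j : K, CohB1.genLocus M (s j) ≤ q ⁻¹ᵁ B j)
    (hcov : ⨆ j : K, CohB1.genLocus M (s j) = ⊤)
    (hgen : ∀ j : K, HImm (CohB1.genLocus M (s j)) (Subring.closure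
      ({a : Γ(X, CohB1.genLocus M (s j)) | ∃ k, sec (s k) (CohB1.genLocus M (s j)) =
        a • sec (s j) (CohB1.genLocus M (s j))} ∪
        Set.range (q.appLE (B j) (CohB1.genLocus M (s j)) (hBle j))))) :
    RelAmple.IsRelVeryAmplePn q M := by
  have hcov' : ⨆ j, CohB1.genLocus M (s j) = ⊤ := by
    rw [eq_top_iff, ← hcov]
    exact iSup_le fun j => le_iSup (fun j => CohB1.genLocus M (s j)) j.1
  let D : CoordData X (Fin (n + 1)) := PnMap.coordData s hcov'
  let p : X ⟶ Spec (CommRingCat.of (ULift.{u} ℤ)) := specULiftZIsTerminal.from X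
  let φ : X ⟶ CohB1.ProjSpace n (ULift.{u} ℤ) := D.toProjSpace p
  let g : X ⟶ CohB1.ProjSpaceOver n Y := pullback.lift φ q (specULiftZIsTerminal.hom_ext _ _)
  have hg1 : g ≫ pullback.fst (CohB1.ProjSpace.toSpec n (ULift.{u} ℤ)) (specULiftZIsTerminal.from Y) = φ :=
    pullback.lift_fst _ _ _
  have hg2 : g ≫ pullback.snd (CohB1.ProjSpace.toSpec n (ULift.{u} ℤ)) (specULiftZIsTerminal.from Y) = q :=
    pullback.lift_snd _ _ _
  let D₀ : Fin (n + 1) → (CohB1.ProjSpace n (ULift.{u} ℤ)).Opens := fun k =>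
    Proj.basicOpen (MvPolynomial.homogeneousSubmodule (Fin (n + 1)) (ULift.{u} ℤ)) (MvPolynomial.X k)
  have hD₀ : ∀ k, φ ⁻¹ᵁ D₀ k = CohB1.genLocus M (s k) := fun k =>
    D.preimage_basicOpen (fun i k => PnMap.basicOpen_ratio s i k) p k
  let V : Fin (n + 1) → (CohB1.ProjSpaceOver n Y).Opens := fun k =>
    pullback.fst (CohB1.ProjSpace.toSpec n (ULift.{u} ℤ)) (specULiftZIsTerminal.from Y) ⁻¹ᵁ D₀ k
  have hV : ∀ k, g ⁻¹ᵁ V k = CohB1.genLocus M (s k) := by
    intro k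
    rw [← hD₀ k, ← hg1]
    rfl
  let r₀ : ∀ i, Fin (n + 1) → Γ(CohB1.ProjSpace n (ULift.{u} ℤ), D₀ i) := fun i j =>
    ProjStd.ratio (Fin (n + 1)) (ULift.{u} ℤ) i j
  let r : ∀ i, Fin (n + 1) → Γ(CohB1.ProjSpaceOver n Y, V i) := fun i j =>
    (pullback.fst (CohB1.ProjSpace.toSpec n (ULift.{u} ℤ)) (specULiftZIsTerminal.from Y)).app (D₀ i) (r₀ i j)
  have hratio : ∀ i j, g.app (V i) (r i j) = ores (hV i).le (PnMap.ratio s i j) := by
    intro i j
    have h1 : PnMap.ratio s i j = φ.appLE (D₀ i) (CohB1.genLocus M (s i)) (hD₀ i).ge (r₀ i j) :=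
      (PnMap.appLE_ratio D p i j (hD₀ i).ge).symm
    rw [h1, ores_appLE]
    exact app_app_eq_appLE g _ φ hg1 (D₀ i) _ (r₀ i j)
  refine ⟨n, g, ?_, hg2, ?_⟩
  · -- immersion
    let W : K → (CohB1.ProjSpaceOver n Y).Opens := fun k =>
      pullback.fst (CohB1.ProjSpace.toSpec n (ULift.{u} ℤ)) (specULiftZIsTerminal.from Y) ⁻¹ᵁ D₀ k ⊓
      pullback.snd (CohB1.ProjSpace.toSpec n (ULift.{u} ℤ)) (specULiftZIsTerminal.from Y) ⁻¹ᵁ B k
    have hW : ∀ k : K, g ⁻¹ᵁ W k = CohB1.genLocus M (s k) := by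
      intro k
      have h1 : g ⁻¹ᵁ W k = g ⁻¹ᵁ V k ⊓ q ⁻¹ᵁ B k := by
        rw [← hg2]
        rfl
      rw [h1, hV]
      exact inf_eq_left.mpr (hBle k)
    refine isImmersion_of_himm g (ι := K) W (fun k => ?_) ?_ (fun k => ?_)
    · exact isAffineOpen_fst_inf_snd _ _ (Proj.isAffineOpen_basicOpen _ _
        (MvPolynomial.isHomogeneous_X _ _ : MvPolynomial.X (k : Fin (n + 1)) ∈
          MvPolynomial.homogeneousSubmodule (Fin (n + 1)) (ULift.{u} ℤ) 1) Nat.one_pos) (hB k)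
    · rw [← hcov]
      exact iSup_congr fun k => hW k
    · have e1 : CohB1.genLocus M (s k) ≤ (g ≫ pullback.fst (CohB1.ProjSpace.toSpec n (ULift.{u} ℤ))
          (specULiftZIsTerminal.from Y)) ⁻¹ᵁ D₀ k := by
        rw [hg1]
        exact (hD₀ k).ge
      have e2 : CohB1.genLocus M (s k) ≤ (g ≫ pullback.snd (CohB1.ProjSpace.toSpec n (ULift.{u} ℤ))
          (specULiftZIsTerminal.from Y)) ⁻¹ᵁ B k := by
        rw [hg2]
        exact hBle k
      refine K43.VADef.himm_congr (hW k) _ _ ?_ (hgen k)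
      intro b hb
      refine K43.VADef.ores_mem_of_closure (hW k).le _ _ ?_ hb
      rintro a (⟨j, ha⟩ | ⟨b, rfl⟩)
      · have h1 : a = PnMap.ratio s k j := by
          apply (isGen_sec_genLocus (s k)).ext
          rw [← ha, ← PnMap.ratio_spec]
        have h2 : PnMap.ratio s k j = φ.appLE (D₀ k) (CohB1.genLocus M (s k)) (hD₀ k).ge (r₀ k j) :=
          (PnMap.appLE_ratio D p k j (hD₀ k).ge).symm
        rw [h1, h2]
        refine ⟨(pullback.fst (CohB1.ProjSpace.toSpec n (ULift.{u} ℤ)) (specULiftZIsTerminal.from Y)).appLE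
          (D₀ k) (W k) inf_le_left (r₀ k j), ?_⟩
        exact app_appLE_eq hg1 (D₀ k) (W k) inf_le_left (hW k).le _ _
      · refine ⟨(pullback.snd (CohB1.ProjSpace.toSpec n (ULift.{u} ℤ)) (specULiftZIsTerminal.from Y)).appLE
          (B k) (W k) inf_le_right b, ?_⟩
        exact app_appLE_eq hg2 (B k) (W k) inf_le_right (hW k).le _ _
  · have hr : ∀ i j, res (Twist.twistOver n Y 1) (inf_le_right : V i ⊓ V j ≤ V j)
        (pullSec (pullback.fst (CohB1.ProjSpace.toSpec n (ULift.{u} ℤ)) (specULiftZIsTerminal.from Y))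
          (gen (ULift.{u} ℤ) j)) =
        ores (inf_le_left : V i ⊓ V j ≤ V i) (r i j) • res (Twist.twistOver n Y 1) (inf_le_left : V i ⊓ V j ≤ V i)
        (pullSec (pullback.fst (CohB1.ProjSpace.toSpec n (ULift.{u} ℤ)) (specULiftZIsTerminal.from Y))
          (gen (ULift.{u} ℤ) i)) := by
      intro i j
      exact pullSec_rel (pullback.fst (CohB1.ProjSpace.toSpec n (ULift.{u} ℤ)) (specULiftZIsTerminal.from Y))
        (r₀ i j) (gen (ULift.{u} ℤ) i) (gen (ULift.{u} ℤ) j) (gen_rel (R := ULift.{u} ℤ) i j)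
    have hcV : ⨆ i, g ⁻¹ᵁ V i = ⊤ := by
      rw [← hcov']
      exact iSup_congr fun k => hV k
    obtain ⟨e⟩ := PnMap.pullback_iso_of_ratio g (N := Twist.twistOver n Y 1) (M := M) V
      (fun i => pullSec _ (gen (ULift.{u} ℤ) i)) (fun i => (isGen_gen i).pullSec _) r hr s hcV
      (fun i => (hV i).le) (by
        intro i j
        rw [hratio, ← PnMap.ratio_spec_le s i j (hV i).le])
    exact ⟨e.symm⟩

end K386.VeryAmpleH
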